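/-
Symplectic transvections and the pair elements attached to two orthogonal vectors.
-/
import Cfsg.Agent.Lib.MinDegree.WeilRep
import Cfsg.Agent.Lib.Classical.AlternatingWitt

set_option autoImplicit false
set_option linter.unusedSectionVars false

namespace Cfsg.Agent.WeilClass

open Matrix Cfsg.Agent.WeilRep

variable {F : Type*} [Field F] {n : ℕ}

local notation "om" => ClassicalSp.spBilin n F

theorem om_self (v : Ph F n) : om v v = 0 := ClassicalSp.spBilin_isAlt v

theorem om_skew (v w : Ph F n) : om w v = -om v w := by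
  have h := om_self (v + w)
  simp only [map_add, LinearMap.add_apply, om_self, zero_add, add_zero] at h
  linear_combination h

/-- The transvection y ↦ y + s om(y,x) x. -/
def tv (x : Ph F n) (s : F) : symplecticGroup (Fin n) F :=
  ⟨Cfsg.sympTransvection n x s, ClassicalSp.sympTransvection_mem x s⟩

theorem act_tv (x : Ph F n) (s : F) (y : Ph F n) : act (tv x s) y = y + (s * om y x) • x := by
  rw [ClassicalSp.spBilin_apply]; exact ClassicalSp.sympTransvection_mulVec x s y

theorem act_mul (g h : symplecticGroup (Fin n) F) (y : Ph F n) : act (g * h) y = act g (act h y) :=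
  (mulVec_mulVec _ _ _).symm

theorem act_one (y : Ph F n) : act (1 : symplecticGroup (Fin n) F) y = y := one_mulVec y

theorem act_inv_act (g : symplecticGroup (Fin n) F) (v : Ph F n) : act g⁻¹ (act g v) = v := by
  rw [← act_mul, inv_mul_cancel, act_one]

theorem om_act (g : symplecticGroup (Fin n) F) (u v : Ph F n) : om (act g u) (act g v) = om u v := by
  rw [ClassicalSp.spBilin_apply, ClassicalSp.spBilin_apply]
  exact (ClassicalSp.mem_iff_preserves g.1).1 g.2 u v

theorem ext_act {g h : symplecticGroup (Fin n) F} (H : ∀ y, act g y = act h y) : g = h :=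
  ClassicalSp.toEquiv_injective (LinearEquiv.ext H)

theorem tv_add (x : Ph F n) (a b : F) : tv x (a + b) = tv x a * tv x b := ext_act fun y => by
  simp only [act_mul, act_tv, map_add, map_smul, LinearMap.add_apply, LinearMap.smul_apply, om_self,
    smul_eq_mul, mul_zero, add_zero]
  module

theorem tv_zero (x : Ph F n) : tv x 0 = 1 := ext_act fun y => by
  simp [act_tv, act_one]

theorem tv_zero_vec (s : F) : tv (0 : Ph F n) s = 1 := ext_act fun y => by
  simp [act_tv, act_one]

theorem tv_smul (x : Ph F n) (r s : F) : tv (r • x) s = tv x (s * r ^ 2) := ext_act fun y => by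
  simp only [act_tv, map_smul, smul_eq_mul, smul_smul]
  congr 2
  ring

theorem tv_neg (x : Ph F n) (s : F) : tv (-x) s = tv x s := by
  rw [← neg_one_smul F x, tv_smul]; congr 1; ring

theorem tv_conj (g : symplecticGroup (Fin n) F) (x : Ph F n) (s : F) :
    g * tv x s = tv (act g x) s * g := ext_act fun y => by
  rw [act_mul, act_mul, act_tv, act_tv, om_act]
  show g.1 *ᵥ (y + (s * om y x) • x) = _
  rw [mulVec_add, mulVec_smul]

/-- The element y ↦ y + t (om(y,z) x + om(y,x) z), for orthogonal x and z. -/
def hel (x z : Ph F n) (t : F) : symplecticGroup (Fin n) F :=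
  tv (x + z) t * tv x (-t) * tv z (-t)

theorem act_hel {x z : Ph F n} (h : om x z = 0) (t : F) (y : Ph F n) :
    act (hel x z t) y = y + (t * om y z) • x + (t * om y x) • z := by
  have h' : om z x = 0 := by rw [om_skew, h, neg_zero]
  simp only [hel, act_mul, act_tv, map_add, map_smul, LinearMap.add_apply, LinearMap.smul_apply, om_self,
    h, h', smul_eq_mul, mul_zero, add_zero]
  module

theorem hel_comm (x z : Ph F n) (h : om x z = 0) (t : F) : hel x z t = hel z x t := ext_act fun y => by
  rw [act_hel h, act_hel (by rw [om_skew, h, neg_zero])]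
  abel

/-- The general element attached to an orthogonal pair. -/
def pel (x z : Ph F n) (p : F × F × F) : symplecticGroup (Fin n) F :=
  tv x p.1 * tv z p.2.1 * hel x z p.2.2

theorem act_pel {x z : Ph F n} (h : om x z = 0) (p : F × F × F) (y : Ph F n) :
    act (pel x z p) y = y + (p.1 * om y x + p.2.2 * om y z) • x + (p.2.1 * om y z + p.2.2 * om y x) • z := by
  have h' : om z x = 0 := by rw [om_skew, h, neg_zero]
  simp only [pel, act_mul, act_tv, act_hel h, map_add, map_smul, LinearMap.add_apply, LinearMap.smul_apply,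
    om_self, h, h', smul_eq_mul, mul_zero, add_zero]
  module

theorem pel_add {x z : Ph F n} (h : om x z = 0) (p p' : F × F × F) :
    pel x z (p + p') = pel x z p * pel x z p' := ext_act fun y => by
  have h' : om z x = 0 := by rw [om_skew, h, neg_zero]
  simp only [act_mul, act_pel h, map_add, map_smul, LinearMap.add_apply, LinearMap.smul_apply, om_self, h, h',
    smul_eq_mul, mul_zero, add_zero, Prod.fst_add, Prod.snd_add]
  module

theorem hel_conj (g : symplecticGroup (Fin n) F) (x z : Ph F n) (t : F) :
    g * hel x z t = hel (act g x) (act g z) t * g := by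
  have h : ∀ (y : Ph F n) (s : F), SemiconjBy g (tv y s) (tv (act g y) s) := fun y s => tv_conj g y s
  simp only [hel]
  rw [show act g x + act g z = act g (x + z) from (mulVec_add _ _ _).symm]
  exact ((h _ _).mul_right (h _ _)).mul_right (h _ _)

theorem hel_zero (x z : Ph F n) : hel x z 0 = 1 := by
  simp [hel, tv_zero]

theorem pel_zero (x z : Ph F n) : pel x z 0 = 1 := by
  simp [pel, hel_zero, tv_zero]

theorem pel_fst (x z : Ph F n) (a : F) : pel x z (a, 0, 0) = tv x a := by
  simp [pel, hel_zero, tv_zero]

theorem pel_snd (x z : Ph F n) (b : F) : pel x z (0, b, 0) = tv z b := by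
  simp [pel, hel_zero, tv_zero]

theorem pel_thd (x z : Ph F n) (t : F) : pel x z (0, 0, t) = hel x z t := by
  simp [pel, tv_zero]

theorem hel_add {x z : Ph F n} (h : om x z = 0) (a b : F) : hel x z (a + b) = hel x z a * hel x z b := by
  rw [← pel_thd, ← pel_thd, ← pel_thd, ← pel_add h]
  simp

theorem hel_smul {x z : Ph F n} (h : om x z = 0) (r t : F) : hel (r • x) z t = hel x z (t * r) :=
  ext_act fun y => by
    rw [act_hel (by simp [h]), act_hel h]
    simp only [map_smul, smul_eq_mul]
    module

theorem hel_smul_self (x : Ph F n) (r t : F) : hel x (r • x) t = tv x (2 * (r * t)) := ext_act fun y => by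
  rw [act_hel (by simp [om_self]), act_tv]
  simp only [map_smul, smul_eq_mul]
  module

theorem tv_add_vec (x z : Ph F n) (h : om x z = 0) (t : F) : tv (x + z) t = tv x t * tv z t * hel x z t :=
  ext_act fun y => by
    have h' : om z x = 0 := by rw [om_skew, h, neg_zero]
    simp only [act_mul, act_tv, act_hel h, map_add, map_smul, LinearMap.add_apply, LinearMap.smul_apply, om_self,
      h, h', smul_eq_mul, mul_zero, add_zero]
    module

theorem tv_parallelogram (a b : Ph F n) (h : om a b = 0) (s : F) :
    tv (a + b) s * tv (a - b) s = tv a (2 * s) * tv b (2 * s) := ext_act fun y => by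
  have h' : om b a = 0 := by rw [om_skew, h, neg_zero]
  simp only [act_mul, act_tv, map_add, map_sub, map_smul, LinearMap.add_apply, LinearMap.sub_apply,
    LinearMap.smul_apply, om_self, h, h', smul_eq_mul, mul_zero, sub_zero, add_zero]
  module

/-- The Heisenberg relation. -/
theorem hel_mul_hel {u v w : Ph F n} (hu : om u w = 0) (hv : om v w = 0) :
    hel u w 1 * hel v w 1 = hel (u + v) w 1 * tv w (om v u) := ext_act fun y => by
  have hu' : om w u = 0 := by rw [om_skew, hu, neg_zero]
  have hv' : om w v = 0 := by rw [om_skew, hv, neg_zero]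
  simp only [act_mul, act_tv, act_hel hu, act_hel hv,
    act_hel (show om (u + v) w = 0 by simp [hu, hv]), map_add, map_smul, LinearMap.add_apply,
    LinearMap.smul_apply, om_self, hu, hv, hu', hv', smul_eq_mul, mul_zero, add_zero, one_mul]
  module

/-- The Siegel vectors. -/
def sv (a : Fin n → F) : Ph F n := Sum.elim a 0

theorem sv_add (a b : Fin n → F) : sv (a + b) = sv a + sv b := by
  funext i; cases i <;> simp [sv]

theorem sv_smul (r : F) (a : Fin n → F) : sv (r • a) = r • sv a := by
  funext i; cases i <;> simp [sv]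

theorem om_sv (y : Ph F n) (a : Fin n → F) : om y (sv a) = (y ∘ Sum.inr) ⬝ᵥ a := by
  rw [ClassicalSp.spBilin_apply, sympForm_eq_dot, show sv a ∘ Sum.inl = a from rfl,
    show sv a ∘ Sum.inr = (0 : Fin n → F) from rfl]
  simp

theorem om_sv_sv (a b : Fin n → F) : om (sv a) (sv b) = 0 := by
  rw [om_sv, show sv a ∘ Sum.inr = (0 : Fin n → F) from rfl, zero_dotProduct]

theorem jHom_symSq (a : Fin n → F) (s : F) :
    SpDegree.jHom (Multiplicative.ofAdd (SympEvenDeg.symSq a s)) = tv (sv a) s := ext_act fun y => by
  rw [act_tv, om_sv]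
  show fromBlocks 1 (s • vecMulVec a a) 0 1 *ᵥ y = _
  funext i
  cases i <;> simp [fromBlocks_mulVec, sv, smul_mulVec, vecMulVec_mulVec, dotProduct_comm a] <;> ring

theorem jHom_symPair (a b : Fin n → F) (t : F) :
    SpDegree.jHom (Multiplicative.ofAdd (SympEvenDeg.symPair a b t)) = hel (sv a) (sv b) t := by
  have h : SympEvenDeg.symPair a b t =
      SympEvenDeg.symSq (a + b) t + SympEvenDeg.symSq a (-t) + SympEvenDeg.symSq b (-t) := Subtype.ext (by
    show t • (vecMulVec a b + vecMulVec b a) =
      t • vecMulVec (a + b) (a + b) + (-t) • vecMulVec a a + (-t) • vecMulVec b b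
    rw [add_vecMulVec, vecMulVec_add, vecMulVec_add]
    module)
  rw [h, ofAdd_add, ofAdd_add, map_mul, map_mul, jHom_symSq, jHom_symSq, jHom_symSq, sv_add, hel]

/-- An orthogonal independent pair can be moved into the Siegel space. -/
theorem exists_to_siegel {x z : Ph F n} (hn : 2 ≤ n) (h : om x z = 0) (hli : LinearIndependent F ![x, z]) :
    ∃ (g : symplecticGroup (Fin n) F) (a b : Fin n → F),
      LinearIndependent F ![a, b] ∧ act g x = sv a ∧ act g z = sv b := by
  let i0 : Fin n := ⟨0, by omega⟩
  let i1 : Fin n := ⟨1, by omega⟩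
  have h01 : i0 ≠ i1 := by simp [i0, i1]
  set a : Fin n → F := Pi.single i0 1
  set b : Fin n → F := Pi.single i1 1
  have hab : LinearIndependent F ![a, b] := by
    rw [LinearIndependent.pair_iff]
    intro s t hst
    exact ⟨by simpa [a, b, h01] using congrFun hst i0, by simpa [a, b, h01.symm] using congrFun hst i1⟩
  have hsv : LinearIndependent F ![sv a, sv b] := by
    rw [LinearIndependent.pair_iff] at hab ⊢
    intro s t hst
    rw [← sv_smul, ← sv_smul, ← sv_add] at hst
    exact hab s t (funext fun i => congrFun hst (Sum.inl i))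
  let φ : Submodule.span F (Set.range ![x, z]) →ₗ[F] Ph F n :=
    (Finsupp.linearCombination F ![sv a, sv b]).comp hli.repr
  obtain ⟨g, hg, hgφ⟩ := AltForm.witt (ClassicalSp.spBilin_isAlt (m := n) (F := F)) ClassicalSp.spBilin_nondeg
    _ φ (fun u v huv => hli.linearCombinationEquiv.symm.injective (hsv huv)) fun u v => by
      have hL : ∀ w ∈ Submodule.span F (Set.range ![x, z]), ∀ w' ∈ Submodule.span F (Set.range ![x, z]),
          om w w' = 0 := by
        intro w hw w' hw'
        rw [Matrix.range_cons, Matrix.range_cons, Matrix.range_empty, Set.union_empty, Set.singleton_union,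
          Submodule.mem_span_pair] at hw hw'
        obtain ⟨p, q, rfl⟩ := hw
        obtain ⟨p', q', rfl⟩ := hw'
        simp [om_self, h, show om z x = 0 by rw [om_skew, h, neg_zero]]
      rw [hL _ u.2 _ v.2]
      simp only [φ, LinearMap.comp_apply, Finsupp.linearCombination_apply, Finsupp.sum, map_sum, map_smul,
        LinearMap.sum_apply, LinearMap.smul_apply]
      refine Finset.sum_eq_zero fun i _ => ?_
      rw [Finset.sum_eq_zero fun j _ => ?_, smul_zero]
      fin_cases i <;> fin_cases j <;> simp [om_self, om_sv_sv]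
  obtain ⟨A, rfl⟩ := ClassicalSp.toEquiv_surj hg
  have hi : ∀ i, act A (![x, z] i) = ![sv a, sv b] i := fun i => by
    have h1 := hgφ ⟨![x, z] i, Submodule.subset_span ⟨i, rfl⟩⟩
    rw [ClassicalSp.toEquiv_apply] at h1
    refine h1.trans ?_
    simp only [φ, LinearMap.comp_apply]
    rw [hli.repr_eq_single i ⟨![x, z] i, Submodule.subset_span ⟨i, rfl⟩⟩ rfl, Finsupp.linearCombination_single,
      one_smul]
  exact ⟨A, a, b, hab, hi 0, hi 1⟩

theorem closure_tv : Subgroup.closure (Set.range fun p : Ph F n × F => tv p.1 p.2) = ⊤ := by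
  rw [eq_top_iff, ← ClassicalSp.closure_transvections, Subgroup.closure_le]
  rintro A ⟨w, c, hA⟩
  exact Subgroup.subset_closure ⟨(w, c), Subtype.ext hA.symm⟩

end Cfsg.Agent.WeilClass
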