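/-
The orbit of a quadratic function of rank at least two, odd characteristic, has at least
(q^n - 1)(q^n - q) / (2 (q + 1)) elements.
-/
import Cfsg.Agent.Lib.MinDegree.SympOdd

set_option autoImplicit false
set_option linter.style.haveILetI false
set_option linter.unusedSectionVars false

namespace Cfsg.Agent.WeilClass

open Finset

/-- A conic a x² + b y² = c, not two lines, has at most q + 1 points. -/
theorem card_conic {F : Type*} [Field F] [Fintype F] [DecidableEq F] (h2 : (2 : F) ≠ 0) {a b c : F}
    (ha : a ≠ 0) (hb : b ≠ 0) (h : c ≠ 0 ∨ ∀ x y, a * x ^ 2 + b * y ^ 2 = 0 → x = 0 ∧ y = 0) :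
    (univ.filter fun p : F × F => a * p.1 ^ 2 + b * p.2 ^ 2 = c).card ≤ Fintype.card F + 1 := by
  set S := univ.filter fun p : F × F => a * p.1 ^ 2 + b * p.2 ^ 2 = c
  by_cases hc : c = 0
  · have h' := h.resolve_left (fun hh => hh hc)
    refine le_trans (card_le_card (t := {((0 : F), (0 : F))}) fun p hp => ?_) (by simp)
    obtain ⟨h1, h3⟩ := h' p.1 p.2 (by rw [(mem_filter.1 hp).2, hc])
    exact mem_singleton.2 (Prod.ext h1 h3)
  rcases S.eq_empty_or_nonempty with h0 | ⟨P, hP⟩
  · simp [h0]
  have hPe : a * P.1 ^ 2 + b * P.2 ^ 2 = c := (mem_filter.1 hP).2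
  -- slopes of the chords through P
  let slope : F × F → Option F := fun R => if R.1 = P.1 then none else some ((R.2 - P.2) / (R.1 - P.1))
  let tang : Option F := if P.2 = 0 then none else some (-(a * P.1) / (b * P.2))
  have hchord : ∀ R ∈ S.erase P, ∀ R' ∈ S.erase P, slope R = slope R' → R = R' := by
    intro R hR R' hR' hs
    obtain ⟨hne, hR⟩ := mem_erase.1 hR
    obtain ⟨hne', hR'⟩ := mem_erase.1 hR'
    have e : a * R.1 ^ 2 + b * R.2 ^ 2 = c := (mem_filter.1 hR).2
    have e' : a * R'.1 ^ 2 + b * R'.2 ^ 2 = c := (mem_filter.1 hR').2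
    simp only [slope] at hs
    split_ifs at hs with h1 h1'
    · have hy : ∀ {U : F × F}, U ≠ P → a * U.1 ^ 2 + b * U.2 ^ 2 = c → U.1 = P.1 → U.2 = -P.2 := by
        intro U hU eU hU1
        have : b * ((U.2 - P.2) * (U.2 + P.2)) = 0 := by rw [hU1] at eU; linear_combination eU - hPe
        rcases mul_eq_zero.1 ((mul_eq_zero.1 this).resolve_left hb) with h | h
        · exact absurd (Prod.ext hU1 (sub_eq_zero.1 h)) hU
        · linear_combination h
      exact Prod.ext (h1.trans h1'.symm) ((hy hne e h1).trans (hy hne' e' h1').symm)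
    · set t := (R.2 - P.2) / (R.1 - P.1) with ht
      have ht' : t = (R'.2 - P.2) / (R'.1 - P.1) := Option.some.inj hs
      have key : ∀ {U : F × F}, U.1 ≠ P.1 → a * U.1 ^ 2 + b * U.2 ^ 2 = c → t = (U.2 - P.2) / (U.1 - P.1) →
          (a + b * t ^ 2) * (U.1 - P.1) = -(2 * (a * P.1 + b * t * P.2)) ∧ U.2 = P.2 + t * (U.1 - P.1) := by
        intro U hU eU htU
        have h0 : U.1 - P.1 ≠ 0 := sub_ne_zero.2 hU
        have h3 : U.2 = P.2 + t * (U.1 - P.1) := by rw [htU, div_mul_cancel₀ _ h0]; ring
        refine ⟨mul_left_cancel₀ h0 ?_, h3⟩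
        rw [h3] at eU
        linear_combination eU - hPe
      obtain ⟨k1, k2⟩ := key h1 e ht
      obtain ⟨k1', k2'⟩ := key (by assumption) e' ht'
      have hab : a + b * t ^ 2 ≠ 0 := fun h0 => by
        rw [h0, zero_mul, eq_comm, neg_eq_zero] at k1
        have k3 : a * P.1 + b * t * P.2 = 0 := (mul_eq_zero.1 k1).resolve_left h2
        have : a * (t * P.1 - P.2) = 0 := by linear_combination t * k3 - P.2 * h0
        have hP2 := (mul_eq_zero.1 this).resolve_left ha
        refine hc ?_
        rw [← hPe]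
        linear_combination P.1 ^ 2 * h0 - b * (t * P.1 + P.2) * hP2
      have h5 : R.1 = R'.1 := by
        have := mul_left_cancel₀ hab (k1.trans k1'.symm)
        linear_combination this
      exact Prod.ext h5 (by rw [k2, k2', h5])
  have hmem : ∀ R ∈ S.erase P, slope R ∈ (univ : Finset (Option F)).erase tang := by
    intro R hR
    obtain ⟨hne, hR⟩ := mem_erase.1 hR
    have e : a * R.1 ^ 2 + b * R.2 ^ 2 = c := (mem_filter.1 hR).2
    refine mem_erase.2 ⟨fun hs => hne ?_, mem_univ _⟩
    simp only [slope, tang] at hs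
    split_ifs at hs with h1 hP2 hP2
    · refine Prod.ext h1 ?_
      have : b * R.2 ^ 2 = 0 := by
        linear_combination e - hPe - a * (R.1 + P.1) * h1 + b * P.2 * hP2
      rw [hP2, eq_zero_of_pow_eq_zero ((mul_eq_zero.1 this).resolve_left hb)]
    · have h0 : R.1 - P.1 ≠ 0 := sub_ne_zero.2 h1
      have hd : (R.2 - P.2) * (b * P.2) = -(a * P.1) * (R.1 - P.1) := by
        have := Option.some.inj hs
        rwa [div_eq_div_iff h0 (mul_ne_zero hb hP2)] at this
      have h3 : a * (R.1 - P.1) ^ 2 + b * (R.2 - P.2) ^ 2 = 0 := by linear_combination e - hPe - 2 * hd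
      have h4 : a * c * (R.1 - P.1) ^ 2 = 0 := by
        linear_combination (b * P.2 ^ 2) * h3 - ((R.2 - P.2) * (b * P.2) - a * P.1 * (R.1 - P.1)) * hd
          - a * (R.1 - P.1) ^ 2 * hPe
      exact absurd (eq_zero_of_pow_eq_zero ((mul_eq_zero.1 h4).resolve_left (mul_ne_zero ha hc))) h0
  have h1 := card_le_card_of_injOn slope hmem (fun R hR R' hR' => hchord R (mem_coe.1 hR) R' (mem_coe.1 hR'))
  rw [card_erase_of_mem hP, card_erase_of_mem (mem_univ _), card_univ, Fintype.card_option] at h1
  omega

section orbit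

variable {F V : Type*} [Field F] [Fintype F] [DecidableEq F] [AddCommGroup V] [Module F V] [Fintype V]
  [DecidableEq V] [FiniteDimensional F V] {Q : V → F} (B : V →ₗ[F] V →ₗ[F] F)
  (h2 : (2 : F) ≠ 0) (hsmul : ∀ (a : F) v, Q (a • v) = a * a * Q v)
  (hadd : ∀ v w, Q (v + w) = Q v + Q w + B v w) (hself : ∀ v, B v v = 2 * Q v)

include hadd in
omit [Fintype F] [DecidableEq F] [Fintype V] [DecidableEq V] [FiniteDimensional F V] in
theorem B_symm (v w : V) : B v w = B w v := by
  have h1 := hadd v w
  rw [add_comm v w, hadd w v] at h1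
  linear_combination -h1

include hsmul hadd in
omit [Fintype F] [DecidableEq F] [Fintype V] [DecidableEq V] [FiniteDimensional F V] in
theorem Q_comb {e f g : V} (hef : B e f = 0) (heg : B e g = 0) (hfg : B f g = 0) (x y : F) :
    Q (x • e + y • f + g) = Q e * x ^ 2 + Q f * y ^ 2 + Q g := by
  simp only [hadd, hsmul, map_add, map_smul, LinearMap.add_apply, LinearMap.smul_apply, hef, heg, hfg,
    smul_eq_mul]
  ring

include h2 hsmul hadd hself in
/-- Two orthogonal vectors with few vectors taking the value of the first. -/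
theorem exists_plane {v₀ w₀ : V} (hrk : (B v₀ w₀) ^ 2 ≠ 4 * Q v₀ * Q w₀) :
    ∃ e f, B e f = 0 ∧ Q e ≠ 0 ∧ Q f ≠ 0 ∧
      (univ.filter fun v => Q v = Q e).card * Fintype.card F ^ 2 ≤ (Fintype.card F + 1) * Fintype.card V := by
  classical
  have hs := B_symm B hadd
  have hfour : (4 : F) ≠ 0 := by
    rw [show (4 : F) = 2 * 2 by norm_num]; exact mul_ne_zero h2 h2
  obtain ⟨e, u, he, hd⟩ : ∃ e u, Q e ≠ 0 ∧ (B e u) ^ 2 ≠ 4 * Q e * Q u := by
    by_cases hv : Q v₀ = 0
    · by_cases hw : Q w₀ = 0
      · refine ⟨v₀ + w₀, w₀, ?_, ?_⟩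
        · rw [hadd, hv, hw]
          intro h
          exact hrk (by rw [hv, show B v₀ w₀ = 0 by linear_combination h]; ring)
        · rw [map_add, LinearMap.add_apply, hself, hw]
          simpa [hv, hw] using hrk
      · exact ⟨w₀, v₀, hw, by rw [hs]; intro h; exact hrk (by rw [h]; ring)⟩
    · exact ⟨v₀, w₀, hv, hrk⟩
  set f := u - (B e u / (2 * Q e)) • e with hf
  have h2e : 2 * Q e ≠ 0 := mul_ne_zero h2 he
  have hef : B e f = 0 := by
    rw [hf, map_sub, map_smul, hself, smul_eq_mul, div_mul_cancel₀ _ h2e, sub_self]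
  have hQf : Q f ≠ 0 := by
    intro h0
    refine hd ?_
    have hu : u = (B e u / (2 * Q e)) • e + f := by rw [hf]; abel
    have h1 : Q u = (B e u / (2 * Q e)) ^ 2 * Q e := by
      conv_lhs => rw [hu]
      rw [hadd, hsmul, h0, map_smul, LinearMap.smul_apply, hef, smul_zero]
      ring
    rw [h1]
    field_simp
    ring
  obtain ⟨f, hef, hQf, hgood⟩ : ∃ f, B e f = 0 ∧ Q f ≠ 0 ∧
      ((∀ g, B e g = 0 → B f g = 0 → Q g = 0) ∨ ∀ x y, Q e * x ^ 2 + Q f * y ^ 2 = 0 → x = 0 ∧ y = 0) := by
    by_cases hcase : ∀ g, B e g = 0 → B f g = 0 → Q g = 0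
    · exact ⟨f, hef, hQf, Or.inl hcase⟩
    push Not at hcase
    obtain ⟨g, hg1, hg2, hg3⟩ := hcase
    have hchar : ringChar F ≠ 2 := fun h => h2 (by
      haveI := ringChar.of_eq h
      exact CharTwo.two_eq_zero)
    obtain ⟨δ, hδ⟩ := FiniteField.exists_nonsquare hchar
    have hodd : Fintype.card F % 2 = 1 := FiniteField.odd_card_of_char_ne_two hchar
    set c := -(Q e * δ)
    obtain ⟨x, y, hxy⟩ := FiniteField.exists_root_sum_quadratic
      (f := Polynomial.C (Q f) * Polynomial.X ^ 2 - Polynomial.C c)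
      (g := Polynomial.C (Q g) * Polynomial.X ^ 2)
      (by rw [Polynomial.degree_sub_C (by rw [Polynomial.degree_C_mul_X_pow _ hQf]; norm_num),
            Polynomial.degree_C_mul_X_pow _ hQf]; rfl)
      (by rw [Polynomial.degree_C_mul_X_pow _ hg3]; rfl) hodd
    simp at hxy
    have hd0 : δ ≠ 0 := fun h => hδ (h ▸ IsSquare.zero)
    have hc0 : c ≠ 0 := neg_ne_zero.2 (mul_ne_zero he hd0)
    have hQ' : Q (x • f + y • g) = c := by
      rw [hadd, hsmul, hsmul, map_smul, map_smul, LinearMap.smul_apply, hg2, smul_zero, smul_zero]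
      linear_combination hxy
    refine ⟨x • f + y • g, by rw [map_add, map_smul, map_smul, hef, hg1, smul_zero, smul_zero, add_zero],
      hQ' ▸ hc0, Or.inr fun a b hab => ?_⟩
    rw [hQ'] at hab
    have hb : b = 0 := by
      by_contra hb
      refine hδ ⟨a / b, ?_⟩
      have : a ^ 2 = δ * b ^ 2 := mul_left_cancel₀ he (by simp only [c] at hab; linear_combination hab)
      field_simp
      linear_combination -this
    subst hb
    exact ⟨eq_zero_of_pow_eq_zero (n := 2) (mul_left_cancel₀ he (by simpa using hab)), rfl⟩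
  refine ⟨e, f, hef, he, hQf, ?_⟩
  let W := (univ : Finset V).filter fun g => B e g = 0 ∧ B f g = 0
  have h2f : 2 * Q f ≠ 0 := mul_ne_zero h2 hQf
  let φ : (F × F) × W → V := fun t => t.1.1 • e + t.1.2 • f + t.2.1
  have hBe : ∀ t, B e (φ t) = t.1.1 * (2 * Q e) := fun t => by
    obtain ⟨-, h1, h3⟩ := mem_filter.1 t.2.2
    simp [φ, hself, hef, h1]
  have hBf : ∀ t, B f (φ t) = t.1.2 * (2 * Q f) := fun t => by
    obtain ⟨-, h1, h3⟩ := mem_filter.1 t.2.2
    simp [φ, hself, hs f e, hef, h3]
  have hφ : Function.Bijective φ := by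
    refine ⟨fun t t' h => ?_, fun v => ?_⟩
    · have h1 := congrArg (B e) h
      have h3 := congrArg (B f) h
      rw [hBe, hBe] at h1
      rw [hBf, hBf] at h3
      have h4 : t.1 = t'.1 := Prod.ext (mul_right_cancel₀ h2e h1) (mul_right_cancel₀ h2f h3)
      refine Prod.ext h4 (Subtype.ext ?_)
      simp only [φ, h4] at h
      exact add_left_cancel h
    · refine ⟨((B e v / (2 * Q e), B f v / (2 * Q f)),
        ⟨v - (B e v / (2 * Q e)) • e - (B f v / (2 * Q f)) • f, mem_filter.2 ⟨mem_univ _, ?_, ?_⟩⟩), ?_⟩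
      · simp [map_sub, hself, hef, div_mul_cancel₀ _ h2e]
      · simp [map_sub, hself, hs f e, hef, div_mul_cancel₀ _ h2f]
      · simp only [φ]; abel
  have hcard : Fintype.card V = Fintype.card F ^ 2 * W.card := by
    rw [← Fintype.card_of_bijective hφ, Fintype.card_prod, Fintype.card_prod, Fintype.card_coe, sq]
  have hle : (univ.filter fun v => Q v = Q e).card ≤ W.card * (Fintype.card F + 1) := by
    set S := (univ : Finset ((F × F) × W)).filter fun t => Q (φ t) = Q e
    have h1 : (univ.filter fun v => Q v = Q e).card ≤ S.card := by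
      refine card_le_card_of_surjOn φ fun v hv => ?_
      obtain ⟨t, rfl⟩ := hφ.2 v
      exact ⟨t, mem_filter.2 ⟨mem_univ _, (mem_filter.1 (mem_coe.1 hv)).2⟩, rfl⟩
    refine h1.trans ((card_le_mul_card_image (f := Prod.snd) S (Fintype.card F + 1) fun w _ => ?_).trans ?_)
    · obtain ⟨-, hw1, hw2⟩ := mem_filter.1 w.2
      refine (card_le_card_of_injOn Prod.fst (fun t ht => ?_) fun t ht t' ht' h =>
        Prod.ext h ((mem_filter.1 (mem_coe.1 ht)).2.trans (mem_filter.1 (mem_coe.1 ht')).2.symm)).trans
        (card_conic h2 he hQf (c := Q e - Q w.1) ?_)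
      · obtain ⟨ht, htw⟩ := mem_filter.1 (mem_coe.1 ht)
        have h3 := (mem_filter.1 ht).2
        subst htw
        simp only [φ] at h3
        rw [Q_comb B hsmul hadd hef hw1 hw2] at h3
        exact mem_coe.2 (mem_filter.2 ⟨mem_univ _, by linear_combination h3⟩)
      · rcases hgood with h | h
        · left; rw [h _ hw1 hw2, sub_zero]; exact he
        · exact Or.inr h
    · rw [mul_comm]
      exact Nat.mul_le_mul_right _ ((card_le_univ _).trans_eq (Fintype.card_coe _))
  calc (univ.filter fun v => Q v = Q e).card * Fintype.card F ^ 2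
      ≤ W.card * (Fintype.card F + 1) * Fintype.card F ^ 2 := Nat.mul_le_mul_right _ hle
    _ = _ := by rw [hcard]; ring

include h2 hsmul hadd hself in
/-- Few vectors orthogonal to e take a given non-zero value. -/
theorem card_perp {e v : V} {b : F} (he : Q e ≠ 0) {f : V} (hef : B e f = 0) (hf : Q f ≠ 0)
    (hv : Q v = Q e) :
    (univ.filter fun w => B v w = 0 ∧ Q w = b).card * Fintype.card F ^ 2 ≤ 2 * Fintype.card V := by
  classical
  have hs := B_symm B hadd
  set K := (univ : Finset V).filter fun w => B v w = 0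
  have h2v : 2 * Q v ≠ 0 := mul_ne_zero h2 (hv ▸ he)
  have hK : Fintype.card V = Fintype.card F * K.card := by
    let φ : F × K → V := fun t => t.1 • v + t.2.1
    have hB : ∀ t, B v (φ t) = t.1 * (2 * Q v) := fun t => by
      simp [φ, hself, (mem_filter.1 t.2.2).2]
    have hφ : Function.Bijective φ := by
      refine ⟨fun t t' h => ?_, fun u => ⟨(B v u / (2 * Q v), ⟨u - (B v u / (2 * Q v)) • v,
        mem_filter.2 ⟨mem_univ _, by simp [map_sub, hself, div_mul_cancel₀ _ h2v]⟩⟩), by simp [φ]⟩⟩
      have h1 := congrArg (B v) h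
      rw [hB, hB] at h1
      have h4 := mul_right_cancel₀ h2v h1
      refine Prod.ext h4 (Subtype.ext ?_)
      simp only [φ, h4] at h
      exact add_left_cancel h
    rw [← Fintype.card_of_bijective hφ, Fintype.card_prod, Fintype.card_coe]
  obtain ⟨g, hg, hQg⟩ : ∃ g, B v g = 0 ∧ Q g ≠ 0 := by
    by_contra hcon
    push Not at hcon
    have hdec : ∀ u, Q u * (4 * Q v) = B v u ^ 2 := fun u => by
      have h0 := hcon (u - (B v u / (2 * Q v)) • v) (by simp [map_sub, hself, div_mul_cancel₀ _ h2v])
      have hu : u = (B v u / (2 * Q v)) • v + (u - (B v u / (2 * Q v)) • v) := by abel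
      have h1 : Q u = (B v u / (2 * Q v)) ^ 2 * Q v := by
        conv_lhs => rw [hu]
        rw [hadd, hsmul, h0, map_smul, LinearMap.smul_apply, map_sub, map_smul, hself, smul_eq_mul, smul_eq_mul,
          div_mul_cancel₀ _ h2v]
        ring
      rw [h1]
      have : Q v ≠ 0 := hv ▸ he
      field_simp
      ring
    have h4 : 4 * Q v ≠ 0 := by
      rw [show (4 : F) = 2 * 2 by norm_num, mul_assoc]; exact mul_ne_zero h2 h2v
    have h1 := hdec (e + f)
    rw [hadd, hef, map_add, add_zero, add_mul, hdec, hdec] at h1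
    have h3 : B v e * B v f = 0 := by
      have : (2 : F) * (B v e * B v f) = 0 := by linear_combination -h1
      exact (mul_eq_zero.1 this).resolve_left h2
    rcases mul_eq_zero.1 h3 with h | h
    · have := hdec e; rw [h] at this; exact mul_ne_zero he h4 (by linear_combination this)
    · have := hdec f; rw [h] at this; exact mul_ne_zero hf h4 (by linear_combination this)
  set S := (univ.filter fun w => B v w = 0 ∧ Q w = b) ×ˢ (univ : Finset F)
  have h1 : S.card ≤ 2 * K.card := by
    refine (card_le_mul_card_image (f := fun p : V × F => p.1 + p.2 • g) S 2 fun u _ => ?_).trans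
      (Nat.mul_le_mul_left _ (card_le_card fun u hu => ?_))
    · refine (card_le_card_of_injOn Prod.snd (fun p hp => ?_) fun p hp p' hp' h => ?_).trans
        (?_ : (univ.filter fun t : F => Q (u + (-t) • g) = b).card ≤ 2)
      · obtain ⟨hp, hpu⟩ := mem_filter.1 (mem_coe.1 hp)
        obtain ⟨hp1, -⟩ := mem_product.1 hp
        refine mem_coe.2 (mem_filter.2 ⟨mem_univ _, ?_⟩)
        rw [← hpu, add_assoc, ← add_smul, add_neg_cancel, zero_smul, add_zero]
        exact (mem_filter.1 hp1).2.2
      · have e1 := (mem_filter.1 (mem_coe.1 hp)).2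
        have e2 := (mem_filter.1 (mem_coe.1 hp')).2
        rw [h, ← e2] at e1
        exact Prod.ext (add_right_cancel e1) h
      · set T := univ.filter fun t : F => Q (u + (-t) • g) = b
        rcases T.eq_empty_or_nonempty with h0 | ⟨t₀, ht₀⟩
        · simp [h0]
        refine le_trans (card_le_card (t := {t₀, B u g / Q g - t₀}) fun t ht => ?_) card_le_two
        have e0 := (mem_filter.1 ht₀).2
        have e1 := (mem_filter.1 ht).2
        simp only [hadd, hsmul, map_neg, map_smul, smul_eq_mul] at e0 e1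
        have : (t - t₀) * ((t + t₀) * Q g - B u g) = 0 := by linear_combination e1 - e0
        simp only [mem_insert, mem_singleton]
        rcases mul_eq_zero.1 this with h | h
        · exact Or.inl (sub_eq_zero.1 h)
        · right; field_simp; linear_combination h
    · obtain ⟨p, hp, rfl⟩ := mem_image.1 hu
      obtain ⟨hp1, -⟩ := mem_product.1 hp
      exact mem_filter.2 ⟨mem_univ _, by simp [(mem_filter.1 hp1).2.1, hg]⟩
  rw [card_product, card_univ] at h1
  calc (univ.filter fun w => B v w = 0 ∧ Q w = b).card * Fintype.card F ^ 2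
      ≤ 2 * K.card * Fintype.card F := by rw [sq, ← mul_assoc]; exact Nat.mul_le_mul_right _ h1
    _ = _ := by rw [hK]; ring

include h2 hsmul hadd hself in
/-- The orbit bound in rank at least two. -/
theorem le_card_orbit_two {v₀ w₀ : V} (hrk : (B v₀ w₀) ^ 2 ≠ 4 * Q v₀ * Q w₀) :
    (Fintype.card F ^ Module.finrank F V - 1) * (Fintype.card F ^ Module.finrank F V - Fintype.card F) ≤
      2 * (Fintype.card F + 1) * (SympOddDeg.orbit F Q).card := by
  classical
  set q := Fintype.card F with hq
  set n := Module.finrank F V with hn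
  have hV : Fintype.card V = q ^ n := Module.card_eq_pow_finrank
  have hs := B_symm B hadd
  obtain ⟨e, f, hef, he, hf, hN⟩ := exists_plane B h2 hsmul hadd hself hrk
  have h2e : 2 * Q e ≠ 0 := mul_ne_zero h2 he
  have h2f : 2 * Q f ≠ 0 := mul_ne_zero h2 hf
  have hli : LinearIndependent F ![e, f] := by
    rw [LinearIndependent.pair_iff]
    intro s t hst
    have h1 := congrArg (B e) hst
    have h3 := congrArg (B f) hst
    simp [hself, hef, hs f e, he, hf, h2] at h1 h3
    exact ⟨h1, h3⟩
  set O := SympOddDeg.orbit F Q with hO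
  let gram : (V → F) → V × V → Prop := fun T x => T x.1 = Q e ∧ T x.2 = Q f ∧ T (x.1 + x.2) = Q e + Q f
  set r := (O.filter fun T => gram T (e, f)).card with hr
  set P := ((univ : Finset (V × V)).filter fun x => gram Q x).card with hP
  have hgram : ∀ x : V × V, gram Q x ↔ Q x.1 = Q e ∧ Q x.2 = Q f ∧ B x.1 x.2 = 0 := fun x => by
    simp only [gram, hadd]
    constructor
    · rintro ⟨a, b, c⟩; exact ⟨a, b, by rw [a, b] at c; linear_combination c⟩
    · rintro ⟨a, b, c⟩; exact ⟨a, b, by rw [a, b, c, add_zero]⟩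
  -- the pairs of one form
  have hPle : P * q ^ 4 ≤ 2 * (q + 1) * (q ^ n * q ^ n) := by
    have h1 : P * q ^ 2 ≤ (univ.filter fun v => Q v = Q e).card * (2 * q ^ n) := by
      rw [hP, card_eq_sum_ones, sum_filter, Fintype.sum_prod_type, sum_mul, ← hV]
      refine le_trans (sum_le_sum fun v _ => ?_) (le_of_eq (by
        rw [card_eq_sum_ones (univ.filter _), sum_filter, sum_mul]))
      by_cases hv : Q v = Q e
      · rw [if_pos hv, one_mul, sum_boole, Nat.cast_id]
        refine le_trans (Nat.mul_le_mul_right _ (card_le_card fun w hw => ?_))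
          (card_perp B h2 hsmul hadd hself (b := Q f) he hef hf hv)
        obtain ⟨-, h1, h3⟩ := (hgram (v, w)).1 (mem_filter.1 hw).2
        exact mem_filter.2 ⟨mem_univ _, h3, h1⟩
      · rw [if_neg hv, zero_mul, sum_boole, Nat.cast_id, filter_false_of_mem
          (fun w _ h => hv h.1), card_empty, zero_mul]
    calc P * q ^ 4 = P * q ^ 2 * q ^ 2 := by ring
      _ ≤ (univ.filter fun v => Q v = Q e).card * (2 * q ^ n) * q ^ 2 := Nat.mul_le_mul_right _ h1
      _ = (univ.filter fun v => Q v = Q e).card * q ^ 2 * (2 * q ^ n) := by ring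
      _ ≤ (q + 1) * q ^ n * (2 * q ^ n) := by
        rw [← hV] at *
        exact Nat.mul_le_mul_right _ hN
      _ = _ := by ring
  -- the forms through one pair
  have hrle : q ^ n * q ^ n ≤ q ^ 4 * r := by
    let φ : Module.Dual F V →ₗ[F] F × F := (LinearMap.applyₗ e).prod (LinearMap.applyₗ f)
    have : Finite (Module.Dual F V) := Finite.of_injective _ DFunLike.coe_injective
    have : Fintype (Module.Dual F V) := Fintype.ofFinite _
    have h1 : q ^ n ≤ q ^ 2 * Fintype.card (LinearMap.ker φ) := by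
      rw [hn, ← Subspace.dual_finrank_eq (K := F) (V := V),
        Module.card_eq_pow_finrank (K := F) (V := LinearMap.ker φ), ← pow_add]
      refine Nat.pow_le_pow_right Fintype.card_pos ?_
      have h := LinearMap.finrank_range_add_finrank_ker φ
      have h' := Submodule.finrank_le (LinearMap.range φ)
      rw [Module.finrank_prod, Module.finrank_self] at h'
      omega
    have hker : ∀ p : LinearMap.ker φ, (p : Module.Dual F V) e = 0 ∧ (p : Module.Dual F V) f = 0 :=
      fun p => Prod.ext_iff.1 (LinearMap.mem_ker.1 p.2)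
    let sh : LinearMap.ker φ × LinearMap.ker φ → V →ₗ[F] V := fun t =>
      LinearMap.id + t.1.1.smulRight e + t.2.1.smulRight f
    have hsh : ∀ t, ∃ g : V ≃ₗ[F] V, ∀ y, g y = sh t y := fun t => ⟨LinearEquiv.ofLinear (sh t)
      (LinearMap.id - t.1.1.smulRight e - t.2.1.smulRight f)
      (by ext y; simp [sh, (hker _).1, (hker _).2]; abel) (by ext y; simp [sh, (hker _).1, (hker _).2]; abel),
      fun _ => rfl⟩
    choose g hg using hsh
    have h3 : Fintype.card (LinearMap.ker φ) * Fintype.card (LinearMap.ker φ) ≤ r := by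
      rw [← Fintype.card_prod, ← card_univ]
      refine card_le_card_of_injOn (fun t => Q ∘ g t) (fun t _ => ?_) fun t _ t' _ h => ?_
      · refine mem_coe.2 (mem_filter.2 ⟨SympOddDeg.mem_orbit.2 ⟨g t, rfl⟩, ?_⟩)
        have he' : g t e = e := by simp [hg, sh, (hker _).1]
        have hf' : g t f = f := by simp [hg, sh, (hker _).2]
        simp [gram, he', hf', map_add, hadd, hef]
      · have key : ∀ x y, B (g t x) (g t y) = B (g t' x) (g t' y) := fun x y => by
          have e1 : Q (g t (x + y)) = Q (g t' (x + y)) := congrFun h (x + y)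
          have e2 : Q (g t x) = Q (g t' x) := congrFun h x
          have e3 : Q (g t y) = Q (g t' y) := congrFun h y
          rw [map_add, map_add, hadd, hadd] at e1
          linear_combination e1 - e2 - e3
        refine Prod.ext (Subtype.ext (LinearMap.ext fun y => ?_)) (Subtype.ext (LinearMap.ext fun y => ?_))
        · have := key e y
          simp [hg, sh, (hker _).1, hself, hef] at this
          tauto
        · have := key f y
          simp [hg, sh, (hker _).2, hself, hs f e, hef] at this
          tauto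
    calc q ^ n * q ^ n ≤ (q ^ 2 * Fintype.card (LinearMap.ker φ)) * (q ^ 2 * Fintype.card (LinearMap.ker φ)) :=
          Nat.mul_le_mul h1 h1
      _ = q ^ 4 * (Fintype.card (LinearMap.ker φ) * Fintype.card (LinearMap.ker φ)) := by ring
      _ ≤ _ := Nat.mul_le_mul_left _ h3
  -- double counting
  have hdc : (q ^ n - 1) * (q ^ n - q) * r ≤ O.card * P := by
    set L := (univ : Finset (V × V)).filter fun x => LinearIndependent F ![x.1, x.2]
    have hL : (q ^ n - 1) * (q ^ n - q) ≤ L.card := by
      rw [card_eq_sum_ones, sum_filter, Fintype.sum_prod_type]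
      refine le_trans ?_ (sum_le_sum_of_subset (subset_univ ((univ : Finset V).erase 0)))
      refine le_trans ?_ (card_nsmul_le_sum _ _ (q ^ n - q) fun v hv => ?_)
      · rw [card_erase_of_mem (mem_univ _), card_univ, hV, smul_eq_mul]
      · rw [sum_boole, Nat.cast_id]
        have hsub : (univ : Finset V) \ ((univ : Finset F).image fun a => a • v) ⊆
            univ.filter fun w => LinearIndependent F ![v, w] := fun w hw => by
          rw [mem_filter]
          exact ⟨mem_univ _, (LinearIndependent.pair_iff' (ne_of_mem_erase hv)).2 fun a ha =>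
            (mem_sdiff.1 hw).2 (mem_image.2 ⟨a, mem_univ _, ha⟩)⟩
        refine le_trans ?_ (card_le_card hsub)
        rw [card_sdiff_of_subset (subset_univ _), card_univ, hV]
        exact Nat.sub_le_sub_left (card_image_le.trans_eq card_univ) _
    calc (q ^ n - 1) * (q ^ n - q) * r ≤ L.card * r := Nat.mul_le_mul_right _ hL
      _ ≤ ∑ x ∈ L, (O.filter fun T => gram T x).card := by
        rw [← smul_eq_mul]
        refine card_nsmul_le_sum _ _ _ fun x hx => ?_
        obtain ⟨h, hv, hw⟩ := QuadOrbit.exists_map_pair hli (mem_filter.1 hx).2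
        refine card_le_card_of_injOn (fun T => T ∘ h) (fun T hT => ?_)
          (fun T _ T' _ hTT => funext fun y => by simpa using congrFun hTT (h.symm y))
        obtain ⟨hT, hT'⟩ := mem_filter.1 (mem_coe.1 hT)
        obtain ⟨g, rfl⟩ := SympOddDeg.mem_orbit.1 hT
        refine mem_coe.2 (mem_filter.2 ⟨SympOddDeg.mem_orbit.2 ⟨h.trans g, rfl⟩, ?_⟩)
        simpa [gram, map_add, hv, hw] using hT'
      _ = ∑ T ∈ O, (L.filter fun x => gram T x).card := by
        simp only [card_eq_sum_ones, sum_filter]
        exact sum_comm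
      _ ≤ O.card * P := by
        rw [← smul_eq_mul]
        refine sum_le_card_nsmul _ _ _ fun T hT => ?_
        obtain ⟨g, rfl⟩ := SympOddDeg.mem_orbit.1 hT
        refine card_le_card_of_injOn (fun x => (g x.1, g x.2)) (fun x hx => ?_)
          (fun x _ y _ h => Prod.ext (g.injective (congrArg Prod.fst h)) (g.injective (congrArg Prod.snd h)))
        refine mem_coe.2 (mem_filter.2 ⟨mem_univ _, ?_⟩)
        simpa [gram, map_add] using (mem_filter.1 (mem_coe.1 hx)).2
  have hq0 : 0 < q := Fintype.card_pos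
  refine Nat.le_of_mul_le_mul_right ?_ (show 0 < q ^ n * q ^ n by positivity)
  calc (q ^ n - 1) * (q ^ n - q) * (q ^ n * q ^ n) ≤ (q ^ n - 1) * (q ^ n - q) * (q ^ 4 * r) :=
        Nat.mul_le_mul_left _ hrle
    _ = (q ^ n - 1) * (q ^ n - q) * r * q ^ 4 := by ring
    _ ≤ O.card * P * q ^ 4 := Nat.mul_le_mul_right _ hdc
    _ = O.card * (P * q ^ 4) := by ring
    _ ≤ O.card * (2 * (q + 1) * (q ^ n * q ^ n)) := Nat.mul_le_mul_left _ hPle
    _ = _ := by ring

end orbit

end Cfsg.Agent.WeilClass
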