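/-
Representations of small degree have rank one on the Siegel radical.
-/
import Cfsg.Agent.Lib.WeilClass.RankBound
import Cfsg.Agent.Lib.WeilClass.Elements

set_option autoImplicit false
set_option linter.unusedSectionVars false
set_option linter.style.haveILetI false

namespace Cfsg.Agent.WeilClass

open Matrix Cfsg.Agent.WeilRep Cfsg.Agent.EigenChar Cfsg.Agent.SympEvenDeg

variable {F : Type*} [Field F] [Fintype F] [DecidableEq F] {n : ℕ}

local notation "om" => ClassicalSp.spBilin n F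

variable {V : Type*} [AddCommGroup V] [Module ℂ V] (ρ : symplecticGroup (Fin n) F →* Module.End ℂ V)
  (ψ : AddChar F ℂ)

/-- v is an eigenvector of the root group of x with parameter a. -/
def Eg (x : Ph F n) (a : F) (v : V) : Prop := ∀ s, ρ (tv x s) v = ψ (a * s) • v

/-- Commuting root groups have spectrum of rank one. -/
def RankOne : Prop := ∀ x z : Ph F n, om x z = 0 → ∀ v : V, v ≠ 0 → ∀ a b t : F, Eg ρ ψ x a v →
  Eg ρ ψ z b v → (∀ s, ρ (hel x z s) v = ψ (t * s) • v) → t ^ 2 = 4 * a * b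

/-- There are no invariant vectors. -/
def NoFix : Prop := ∀ v : V, (∀ g, ρ g v = v) → v = 0

omit [Fintype F] [DecidableEq F] in
/-- An operator killing the eigenvectors of a finite abelian group of operators kills the space. -/
theorem kill_on {A : Type*} [AddCommGroup A] [Fintype A] {R : AddChar A (Module.End ℂ V)} {W : Submodule ℂ V}
    (hW : ∀ a, ∀ y ∈ W, R a y ∈ W) {W' : Type*} [AddCommGroup W'] [Module ℂ W'] (T : V →ₗ[ℂ] W')
    (h : ∀ χ : AddChar A ℂ, ∀ y ∈ W, (∀ a, R a y = χ a • y) → T y = 0) {x : V} (hx : x ∈ W) : T x = 0 := by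
  have htot := congrArg (fun S : Module.End ℂ V => T (S x)) (sum_proj R)
  simp only [LinearMap.sum_apply, map_sum, LinearMap.smul_apply, Module.End.one_apply, map_smul] at htot
  rw [Finset.sum_eq_zero fun χ _ => h χ _ (proj_mem hW χ hx).1 (proj_mem hW χ hx).2] at htot
  exact (smul_eq_zero.1 htot.symm).resolve_left (Nat.cast_ne_zero.2 Fintype.card_ne_zero)

/-- The root group of x. -/
def rootChar (x : Ph F n) : AddChar F (Module.End ℂ V) where
  toFun s := ρ (tv x s)
  map_zero_eq_one' := by rw [tv_zero, map_one]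
  map_add_eq_mul' a b := by rw [tv_add, map_mul]

omit [Fintype F] [DecidableEq F] in
theorem rootChar_apply (x : Ph F n) (s : F) : rootChar ρ x s = ρ (tv x s) := rfl

/-- The group of an orthogonal pair. -/
def pairChar {x z : Ph F n} (h : om x z = 0) : AddChar (F × F × F) (Module.End ℂ V) where
  toFun p := ρ (pel x z p)
  map_zero_eq_one' := by rw [pel_zero, map_one]
  map_add_eq_mul' a b := by rw [pel_add h, map_mul]

variable {ρ ψ}

omit [Fintype F] [DecidableEq F] in
theorem Eg.map {x : Ph F n} {a : F} {v : V} (h : Eg ρ ψ x a v) (g : symplecticGroup (Fin n) F) :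
    Eg ρ ψ (act g x) a (ρ g v) := fun s => by
  rw [← Module.End.mul_apply, ← map_mul, ← tv_conj, map_mul, Module.End.mul_apply, h s, map_smul]

omit [Fintype F] [DecidableEq F] in
theorem Eg.of_smul {x : Ph F n} {a : F} {v : V} (h : Eg ρ ψ x a v) (r : F) :
    Eg ρ ψ (r • x) (a * r ^ 2) v := fun s => by
  rw [tv_smul, h]; congr 2; ring

variable (hψ : ψ ≠ 1)
include hψ

theorem Eg.unique {x : Ph F n} {a b : F} {v : V} (ha : Eg ρ ψ x a v) (hb : Eg ρ ψ x b v) (hv : v ≠ 0) :
    a = b :=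
  eq_of_forall hψ fun s => smul_left_injective ℂ hv ((ha s).symm.trans (hb s))

theorem exists_param (φ : AddChar F ℂ) : ∃ a : F, ∀ s, φ s = ψ (a * s) := by
  obtain ⟨a, ha, -⟩ := exists_coeff hψ φ
  exact ⟨a, fun s => by rw [← ha]; rfl⟩

/-- An operator killing all common eigenvectors of an orthogonal pair kills the space. -/
theorem kill_pair {x z : Ph F n} (h : om x z = 0) {W : Submodule ℂ V}
    (hW : ∀ p, ∀ y ∈ W, ρ (pel x z p) y ∈ W) {W' : Type*} [AddCommGroup W'] [Module ℂ W'] (T : V →ₗ[ℂ] W')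
    (hT : ∀ y ∈ W, ∀ a b t : F, Eg ρ ψ x a y → Eg ρ ψ z b y → (∀ s, ρ (hel x z s) y = ψ (t * s) • y) → T y = 0)
    {v : V} (hv : v ∈ W) : T v = 0 := by
  refine kill_on (R := pairChar ρ h) hW T (fun χ y hy hχ => ?_) hv
  obtain ⟨a, ha⟩ := exists_param hψ (χ.compAddMonoidHom (AddMonoidHom.inl F (F × F)))
  obtain ⟨b, hb⟩ := exists_param hψ
    (χ.compAddMonoidHom ((AddMonoidHom.inr F (F × F)).comp (AddMonoidHom.inl F F)))
  obtain ⟨t, ht⟩ := exists_param hψ
    (χ.compAddMonoidHom ((AddMonoidHom.inr F (F × F)).comp (AddMonoidHom.inr F F)))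
  refine hT y hy a b t (fun s => ?_) (fun s => ?_) fun s => ?_
  · rw [← ha, ← pel_fst x z]; exact hχ _
  · rw [← hb, ← pel_snd x z]; exact hχ _
  · rw [← ht, ← pel_thd x z]; exact hχ _

omit hψ

/-- The polar form and quadratic function of a character of the Siegel radical, odd characteristic. -/
theorem qf_laws {ψ : AddChar F ℂ} (hψ : ψ ≠ 1) (φ : AddChar (SpDegree.Sym F n) ℂ) :
    (∀ (c : F) v, qf hψ φ (c • v) = c * c * qf hψ φ v) ∧
      (∀ v w, qf hψ φ (v + w) = qf hψ φ v + qf hψ φ w + bl hψ φ v w) ∧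
      (∀ v, bl hψ φ v v = 2 * qf hψ φ v) := by
  refine ⟨fun c v => qf_eq hψ fun d => ?_, fun v w => qf_eq hψ fun c => ?_, fun v => bf_eq hψ fun c => ?_⟩
  · rw [show symSq (c • v) d = symSq v (c * c * d) from Subtype.ext (by
      show d • vecMulVec (c • v) (c • v) = (c * c * d) • vecMulVec v v
      rw [smul_vecMulVec, vecMulVec_smul, smul_smul, smul_smul]; congr 1; ring), qf_spec hψ]
    congr 1
    ring
  · rw [show symSq (v + w) c = symSq v c + symSq w c + symPair v w c from Subtype.ext (by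
      show c • vecMulVec (v + w) (v + w) =
        c • vecMulVec v v + c • vecMulVec w w + c • (vecMulVec v w + vecMulVec w v)
      rw [add_vecMulVec, vecMulVec_add, vecMulVec_add, ← smul_add, ← smul_add]; congr 1; abel),
      AddChar.map_add_eq_mul, AddChar.map_add_eq_mul, qf_spec hψ, qf_spec hψ, bf_spec hψ,
      ← AddChar.map_add_eq_mul, ← AddChar.map_add_eq_mul]
    congr 1
    show _ = (_ + _ + bf hψ φ v w) * c
    ring
  · rw [show symPair v v c = symSq v c + symSq v c from Subtype.ext (smul_add _ _ _), AddChar.map_add_eq_mul,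
      qf_spec hψ, ← AddChar.map_add_eq_mul]
    congr 1
    ring

variable (ρ) in
/-- The Siegel radical. -/
def siegelChar : AddChar (SpDegree.Sym F n) (Module.End ℂ V) where
  toFun S := ρ (SpDegree.jHom (Multiplicative.ofAdd S))
  map_zero_eq_one' := by rw [ofAdd_zero, map_one, map_one]
  map_add_eq_mul' a b := by rw [ofAdd_add, map_mul, map_mul]

/-- The whole orbit of an occurring form occurs. -/
theorem orbit_le_finrank [FiniteDimensional ℂ V] {ψ : AddChar F ℂ} (hψ : ψ ≠ 1) [Fintype (SpDegree.Sym F n)]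
    {φ : AddChar (SpDegree.Sym F n) ℂ} {y : V} (hy0 : y ≠ 0) (hy : ∀ S, siegelChar ρ S y = φ S • y) :
    (SympOddDeg.orbit F (qf hψ φ)).card ≤ Module.finrank ℂ V := by
  classical
  have hocc : ∀ T ∈ SympOddDeg.orbit F (qf hψ φ), ∃ φ' : AddChar (SpDegree.Sym F n) ℂ, qf hψ φ' = T ∧
      eig (siegelChar ρ) ⊤ φ' ≠ ⊥ := by
    intro T hT
    obtain ⟨g, rfl⟩ := SympOddDeg.mem_orbit.1 hT
    have hdet : (LinearMap.toMatrix' g.toLinearMap).det ≠ 0 := by
      rw [LinearMap.det_toMatrix']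
      exact (LinearEquiv.isUnit_det' g).ne_zero
    let M : GL (Fin n) F := Matrix.GeneralLinearGroup.mkOfDetNeZero _ hdet
    refine ⟨φ.compAddMonoidHom (congrA M), funext fun v => qf_eq hψ fun c => ?_, (Submodule.ne_bot_iff _).2
      ⟨ρ (SpDegree.levi M)⁻¹ y, ⟨Submodule.mem_top, fun S => ?_⟩, fun h => ?_⟩⟩
    · rw [AddChar.compAddMonoidHom_apply, congrA_symSq, qf_spec hψ]
      congr 3
      exact LinearMap.congr_fun (Matrix.toLin'_toMatrix' g.toLinearMap) v
    · show ρ (SpDegree.jHom (Multiplicative.ofAdd S)) (ρ (SpDegree.levi M)⁻¹ y) =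
        φ (congrA M S) • ρ (SpDegree.levi M)⁻¹ y
      rw [← Module.End.mul_apply, ← map_mul, show SpDegree.jHom (Multiplicative.ofAdd S) * (SpDegree.levi M)⁻¹ =
          (SpDegree.levi M)⁻¹ * SpDegree.jHom (Multiplicative.ofAdd (congrA M S)) by
        rw [show Multiplicative.ofAdd (congrA M S) = SpDegree.sigma M (Multiplicative.ofAdd S) from rfl,
          ← SpDegree.conj_jHom]
        group, map_mul, Module.End.mul_apply,
        show ρ (SpDegree.jHom (Multiplicative.ofAdd (congrA M S))) y = φ (congrA M S) • y from hy _, map_smul]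
    · have := congrArg (ρ (SpDegree.levi M)) h
      rw [map_zero, ← Module.End.mul_apply, ← map_mul, mul_inv_cancel, map_one, Module.End.one_apply] at this
      exact hy0 this
  choose! Φ hΦ1 hΦ2 using hocc
  have h1 : ((SympOddDeg.orbit F (qf hψ φ)).image Φ).card = (SympOddDeg.orbit F (qf hψ φ)).card :=
    Finset.card_image_of_injOn fun T hT T' hT' h => by rw [← hΦ1 T hT, ← hΦ1 T' hT', h]
  rw [← h1]
  refine le_trans ?_ ((sum_finrank_le (R := siegelChar ρ) (W := ⊤) (fun _ _ _ => Submodule.mem_top)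
    ((SympOddDeg.orbit F (qf hψ φ)).image Φ)).trans_eq (finrank_top ℂ V))
  rw [Finset.card_eq_sum_ones]
  refine Finset.sum_le_sum fun φ' hφ' => Nat.one_le_iff_ne_zero.2 fun h => ?_
  obtain ⟨T, hT, rfl⟩ := Finset.mem_image.1 hφ'
  exact hΦ2 T hT (Submodule.finrank_eq_zero.1 h)

/-- Small representations have rank one. -/
theorem rankOne_of_small [FiniteDimensional ℂ V] {ψ : AddChar F ℂ} (hψ : ψ ≠ 1) (h2 : (2 : F) ≠ 0) (hn : 2 ≤ n)
    (hsmall : 2 * (Fintype.card F + 1) * Module.finrank ℂ V <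
      (Fintype.card F ^ n - 1) * (Fintype.card F ^ n - Fintype.card F)) :
    RankOne ρ ψ := by
  classical
  intro x z hxz v hv a b t ha hb ht
  by_cases hli : LinearIndependent F ![x, z]
  swap
  · have hc : x = 0 ∨ ∃ k : F, z = k • x := by
      by_cases hx : x = 0
      · exact Or.inl hx
      · rw [LinearIndependent.pair_iff' hx] at hli
        push Not at hli
        obtain ⟨k, hk⟩ := hli
        exact Or.inr ⟨k, hk.symm⟩
    rcases hc with rfl | ⟨k, rfl⟩
    · have h1 : a = 0 := Eg.unique hψ ha (fun s => by rw [tv_zero_vec]; simp) hv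
      have h3 : t = 0 := eq_of_forall hψ fun s => smul_left_injective ℂ hv
        ((ht s).symm.trans (by rw [hel]; simp [tv_zero_vec, ← tv_add, tv_zero]))
      rw [h1, h3]; ring
    · have h1 : b = a * k ^ 2 := Eg.unique hψ hb (ha.of_smul k) hv
      have h3 : t = 2 * k * a := eq_of_forall hψ fun s => smul_left_injective ℂ hv
        ((ht s).symm.trans (by rw [hel_smul_self, ha]; congr 2; ring))
      rw [h1, h3]; ring
  obtain ⟨g, p, p', -, hgx, hgz⟩ := exists_to_siegel hn hxz hli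
  set w := ρ g v with hw
  have hw0 : w ≠ 0 := fun h => hv (by
    have := congrArg (ρ g⁻¹) h
    rwa [map_zero, hw, ← Module.End.mul_apply, ← map_mul, inv_mul_cancel, map_one, Module.End.one_apply] at this)
  have ha' : Eg ρ ψ (sv p) a w := hgx ▸ ha.map g
  have hb' : Eg ρ ψ (sv p') b w := hgz ▸ hb.map g
  have ht' : ∀ s, ρ (hel (sv p) (sv p') s) w = ψ (t * s) • w := fun s => by
    have hc : g * hel x z s = hel (sv p) (sv p') s * g := by rw [hel_conj, hgx, hgz]
    rw [hw, ← Module.End.mul_apply, ← map_mul, ← hc, map_mul, Module.End.mul_apply, ht, map_smul]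
  letI : Fintype (SpDegree.Sym F n) := Fintype.ofFinite _
  set R := siegelChar ρ with hR
  let W : Submodule ℂ V := eig (R.compAddMonoidHom (symSq p)) ⊤ (AddChar.mulShift ψ a) ⊓
    eig (R.compAddMonoidHom (symSq p')) ⊤ (AddChar.mulShift ψ b) ⊓
    eig (R.compAddMonoidHom (symPair p p')) ⊤ (AddChar.mulShift ψ t)
  have hwW : w ∈ W := by
    refine ⟨⟨⟨Submodule.mem_top, fun s => ?_⟩, ⟨Submodule.mem_top, fun s => ?_⟩⟩, ⟨Submodule.mem_top, fun s => ?_⟩⟩
    · show ρ (SpDegree.jHom _) w = _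
      rw [jHom_symSq]; exact ha' s
    · show ρ (SpDegree.jHom _) w = _
      rw [jHom_symSq]; exact hb' s
    · show ρ (SpDegree.jHom _) w = _
      rw [jHom_symPair]; exact ht' s
  have hWst : ∀ S, ∀ y ∈ W, R S y ∈ W := by
    have key : ∀ (f : F →+ SpDegree.Sym F n) (χ : AddChar F ℂ) (S : SpDegree.Sym F n) (y : V),
        y ∈ eig (R.compAddMonoidHom f) ⊤ χ → R S y ∈ eig (R.compAddMonoidHom f) ⊤ χ := fun f χ S y hy =>
      ⟨Submodule.mem_top, fun c => by
        rw [← Module.End.mul_apply, AddChar.compAddMonoidHom_apply, ← AddChar.map_add_eq_mul, add_comm,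
          AddChar.map_add_eq_mul, Module.End.mul_apply, show R (f c) y = χ c • y from hy.2 c, map_smul]⟩
    exact fun S y hy => ⟨⟨key _ _ S y hy.1.1, key _ _ S y hy.1.2⟩, key _ _ S y hy.2⟩
  obtain ⟨φ, hφ⟩ := exists_char' hWst ((Submodule.ne_bot_iff _).2 ⟨w, hwW, hw0⟩)
  obtain ⟨y, ⟨hyW, hy⟩, hy0⟩ := (Submodule.ne_bot_iff _).1 hφ
  have e1 : qf hψ φ p = a := qf_eq hψ fun c =>
    smul_left_injective ℂ hy0 ((hy _).symm.trans (hyW.1.1.2 c))
  have e2 : qf hψ φ p' = b := qf_eq hψ fun c =>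
    smul_left_injective ℂ hy0 ((hy _).symm.trans (hyW.1.2.2 c))
  have e3 : bl hψ φ p p' = t := bf_eq hψ fun c =>
    smul_left_injective ℂ hy0 ((hy _).symm.trans (hyW.2.2 c))
  by_contra hne
  obtain ⟨l1, l2, l3⟩ := qf_laws hψ φ
  have h1 := le_card_orbit_two (Q := qf hψ φ) (bl hψ φ) h2 l1 l2 l3 (v₀ := p) (w₀ := p')
    (by rwa [e1, e2, e3])
  rw [Module.finrank_pi, Fintype.card_fin] at h1
  have h3 := orbit_le_finrank hψ hy0 hy
  exact absurd (h1.trans (Nat.mul_le_mul_left _ h3)) (not_le.2 hsmall)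

end Cfsg.Agent.WeilClass
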