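/-
In rank one the transvections give cosine operators satisfying d'Alembert's equation.
-/
import Cfsg.Agent.Lib.WeilClass.Small

set_option autoImplicit false
set_option linter.unusedSectionVars false
set_option linter.style.haveILetI false

namespace Cfsg.Agent.WeilClass

open Matrix Finset Cfsg.Agent.WeilRep Cfsg.Agent.EigenChar

variable {F : Type*} [Field F] [Fintype F] [DecidableEq F] {n : ℕ}

local notation "om" => ClassicalSp.spBilin n F
local notation "qC" => (Fintype.card F : ℂ)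

section sums

variable {ψ : AddChar F ℂ} (hψ : ψ ≠ 1)

theorem qC_ne_zero : qC ≠ 0 := Nat.cast_ne_zero.2 Fintype.card_ne_zero

include hψ in
theorem sum_mul (m : F) : ∑ s, ψ (m * s) = if m = 0 then qC else 0 := by
  have h := AddChar.sum_mulShift m (AddChar.IsPrimitive.of_ne_one hψ)
  push_cast [apply_ite Nat.cast] at h
  rw [← h]
  exact Finset.sum_congr rfl fun s _ => by rw [mul_comm]

/-- Summing over the square roots of a square. -/
theorem sum_sq (h2 : (2 : F) ≠ 0) (g : F → ℂ) (d : F) :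
    (∑ b, if b ^ 2 = d ^ 2 then g b else 0) + (if d = 0 then g 0 else 0) = g d + g (-d) := by
  rw [← sum_filter]
  by_cases hd : d = 0
  · subst hd
    rw [show (univ.filter fun b : F => b ^ 2 = 0 ^ 2) = {0} by ext b; simp, sum_singleton, if_pos rfl, neg_zero]
  · have hne : d ≠ -d := fun h => hd ((mul_eq_zero.1 (show (2 : F) * d = 0 by linear_combination h)).resolve_left h2)
    rw [show (univ.filter fun b : F => b ^ 2 = d ^ 2) = {d, -d} by ext b; simp [sq_eq_sq_iff_eq_or_eq_neg],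
      sum_pair hne, if_neg hd, add_zero]

end sums

variable {V : Type*} [AddCommGroup V] [Module ℂ V] (ρ : symplecticGroup (Fin n) F →* Module.End ℂ V)
  (ψ : AddChar F ℂ)

/-- Projection on the a-eigenspace of the root group of x, not normalised. -/
noncomputable def pr (x : Ph F n) (a : F) : Module.End ℂ V := ∑ s, ψ (-(a * s)) • ρ (tv x s)

/-- The spectrum of all transvections lies in the class of c. -/
def InClass (c : F) : Prop := ∀ (x : Ph F n) (a : F) (v : V), Eg ρ ψ x a v → v ≠ 0 → ∃ e, a = c * e ^ 2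

/-- The cosine. -/
noncomputable def cs (c e : F) : ℂ := 2⁻¹ * (ψ (2 * c * e) + ψ (-(2 * c * e)))

/-- The kernel of the cosine operators. -/
noncomputable def kap (c s : F) : ℂ := 2⁻¹ * (1 + ∑ b, ψ (2 * c * b - c * b ^ 2 * s))

/-- The cosine operators. -/
noncomputable def cosOp (c : F) (x : Ph F n) : Module.End ℂ V :=
  qC⁻¹ • ∑ s, kap ψ c s • ρ (tv x s)

variable {ρ ψ} (hψ : ψ ≠ 1)

theorem Eg.trans_tv {x : Ph F n} {a : F} {v : V} (h : Eg ρ ψ x a v) (s : F) : Eg ρ ψ x a (ρ (tv x s) v) :=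
  fun r => by
    rw [← Module.End.mul_apply, ← map_mul, ← tv_add, add_comm, tv_add, map_mul, Module.End.mul_apply, h r,
      map_smul]

theorem Eg.app {x : Ph F n} {a : F} {v : V} (h : Eg ρ ψ x a v) (s : F) : ρ (tv x s) v = ψ (a * s) • v := h s

theorem Eg.commute_map {z : Ph F n} {a : F} {v : V} (h : Eg ρ ψ z a v) (g : symplecticGroup (Fin n) F)
    (hg : act g z = z) : Eg ρ ψ z a (ρ g v) := by
  have := h.map g
  rwa [hg] at this

theorem pr_conj (g : symplecticGroup (Fin n) F) (x : Ph F n) (a : F) (v : V) :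
    ρ g (pr ρ ψ x a v) = pr ρ ψ (act g x) a (ρ g v) := by
  simp only [pr, LinearMap.sum_apply, LinearMap.smul_apply, map_sum, map_smul, ← Module.End.mul_apply,
    ← map_mul, tv_conj]

theorem pr_mem (x : Ph F n) (a : F) (v : V) : Eg ρ ψ x a (pr ρ ψ x a v) := fun s => by
  simp only [pr, LinearMap.sum_apply, LinearMap.smul_apply, map_sum, map_smul, Finset.smul_sum, smul_smul,
    ← Module.End.mul_apply, ← map_mul, ← tv_add]
  refine Fintype.sum_equiv (Equiv.addLeft s) _ _ fun r => ?_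
  rw [Equiv.coe_addLeft, ← AddChar.map_add_eq_mul]
  congr 2
  ring

include hψ in
theorem pr_eig {x : Ph F n} {a b : F} {v : V} (h : Eg ρ ψ x b v) :
    pr ρ ψ x a v = if b = a then qC • v else 0 := by
  simp only [pr, LinearMap.sum_apply, LinearMap.smul_apply, h.app, smul_smul, ← AddChar.map_add_eq_mul,
    ← Finset.sum_smul]
  rw [show (∑ s, ψ (-(a * s) + b * s)) = if b - a = 0 then qC else 0 by
    rw [← sum_mul hψ]; exact Finset.sum_congr rfl fun s _ => by congr 1; ring]
  simp only [sub_eq_zero]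
  split_ifs <;> simp

variable (h2 : (2 : F) ≠ 0) (hn : 2 ≤ n) (hR : RankOne ρ ψ) (hfix : NoFix ρ)
include hψ h2 hn hR hfix

/-- Nothing is fixed by all transvections orthogonal to a hyperbolic pair. -/
theorem fixed_eq_zero {x y : Ph F n} (hxy : om x y ≠ 0) {v : V}
    (hv : ∀ w, om w x = 0 → om w y = 0 → ∀ s, ρ (tv w s) v = v) : v = 0 := by
  have hyx : om y x ≠ 0 := by rw [om_skew]; exact neg_ne_zero.2 hxy
  have hdec : ∀ u : Ph F n, ∃ a b : F, om (u - a • x - b • y) x = 0 ∧ om (u - a • x - b • y) y = 0 := fun u =>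
    ⟨om u y / om x y, om u x / om y x, by simp [om_self, div_mul_cancel₀ _ hyx],
      by simp [om_self, div_mul_cancel₀ _ hxy]⟩
  -- the pair elements fix v
  have hhel : ∀ u, (u = x ∨ u = y) → ∀ z, om z x = 0 → om z y = 0 → ∀ s, ρ (hel z u s) v = v := by
    intro u hu z hzx hzy s
    have hzu : om z u = 0 := by rcases hu with rfl | rfl <;> assumption
    let W : Submodule ℂ V := eig (rootChar ρ z) ⊤ (AddChar.mulShift ψ 0)
    have hW : ∀ p, ∀ y' ∈ W, ρ (pel z u p) y' ∈ W := fun p y' hy' => ⟨Submodule.mem_top, fun r => by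
      have h1 : act (pel z u p) z = z := by
        rw [act_pel hzu, om_self, hzu]; simp
      have := (show Eg ρ ψ z 0 y' from fun r => hy'.2 r).commute_map (pel z u p) h1 r
      exact this⟩
    have hvW : v ∈ W := ⟨Submodule.mem_top, fun r => by
      show ρ (tv z r) v = ψ (0 * r) • v
      rw [zero_mul, AddChar.map_zero_eq_one, one_smul, hv z hzx hzy]⟩
    refine sub_eq_zero.1 (kill_pair hψ hzu hW (ρ (hel z u s) - 1) (fun y' hy' a b t ha hb ht => ?_) hvW)
    by_cases h0 : y' = 0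
    · simp [h0]
    have ha0 : a = 0 := ha.unique hψ (show Eg ρ ψ z 0 y' from fun r => hy'.2 r) h0
    have ht0 : t = 0 := eq_zero_of_pow_eq_zero (n := 2) (by rw [hR z u hzu y' h0 a b t ha hb ht, ha0]; ring)
    rw [LinearMap.sub_apply, ht, ht0, zero_mul, AddChar.map_zero_eq_one, one_smul, Module.End.one_apply, sub_self]
  -- so do the transvections of x and y
  obtain ⟨z, hz0, hzx, hzy⟩ : ∃ z : Ph F n, z ≠ 0 ∧ om z x = 0 ∧ om z y = 0 := by
    let φ : Ph F n →ₗ[F] F × F := ((ClassicalSp.spBilin n F).flip x).prod ((ClassicalSp.spBilin n F).flip y)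
    have : LinearMap.ker φ ≠ ⊥ := by
      intro h
      have h1 := LinearMap.finrank_range_add_finrank_ker φ
      rw [h, finrank_bot, ClassicalSp.finrank_space] at h1
      have h3 := Submodule.finrank_le (LinearMap.range φ)
      rw [Module.finrank_prod, Module.finrank_self] at h3
      omega
    obtain ⟨z, hz, hz0⟩ := (Submodule.ne_bot_iff _).1 this
    have := LinearMap.mem_ker.1 hz
    exact ⟨z, hz0, (Prod.ext_iff.1 this).1, (Prod.ext_iff.1 this).2⟩
  obtain ⟨w, hwz, hwx, hwy⟩ : ∃ w : Ph F n, om w z ≠ 0 ∧ om w x = 0 ∧ om w y = 0 := by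
    obtain ⟨u, hu⟩ : ∃ u, om u z ≠ 0 := by
      by_contra h
      push Not at h
      exact hz0 (ClassicalSp.spBilin_nondeg.2 z h)
    obtain ⟨a, b, h1, h3⟩ := hdec u
    refine ⟨u - a • x - b • y, ?_, h1, h3⟩
    have hxz : om x z = 0 := by rw [om_skew, hzx, neg_zero]
    have hyz : om y z = 0 := by rw [om_skew, hzy, neg_zero]
    simpa [hxz, hyz] using hu
  have htv : ∀ u, (u = x ∨ u = y) → ∀ s, ρ (tv u s) v = v := by
    intro u hu s
    set z' := (s / om w z) • z
    have hz'x : om z' x = 0 := by simp [z', hzx]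
    have hz'y : om z' y = 0 := by simp [z', hzy]
    have hsum : ∀ e, e = x ∨ e = y → om (z' + w) e = 0 := by
      rintro e (rfl | rfl) <;> simp [hz'x, hz'y, hwx, hwy]
    have hz'u : om z' u = 0 := by rcases hu with rfl | rfl <;> assumption
    have hwu : om w u = 0 := by rcases hu with rfl | rfl <;> assumption
    have hs : om w z' = s := by simp [z', div_mul_cancel₀ _ hwz]
    have h := congrArg (fun g => ρ g v) (hel_mul_hel hz'u hwu)
    simp only [map_mul, Module.End.mul_apply] at h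
    rw [hhel u hu w hwx hwy, hhel u hu z' hz'x hz'y, hs] at h
    have h3 := congrArg (ρ (hel (z' + w) u 1)⁻¹) h
    rw [← Module.End.mul_apply, ← Module.End.mul_apply, ← map_mul, ← map_mul, inv_mul_cancel,
      one_mul] at h3
    rw [← h3]
    have h4 : ρ (hel (z' + w) u 1) v = v := hhel u hu _ (hsum x (Or.inl rfl)) (hsum y (Or.inr rfl)) 1
    conv_lhs => rw [← h4]
    rw [← Module.End.mul_apply, ← map_mul, inv_mul_cancel, map_one, Module.End.one_apply]
  -- hence all transvections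
  have hline : ∀ u, (u = x ∨ u = y) → ∀ (b : F) (z : Ph F n), om z x = 0 → om z y = 0 →
      ∀ s, ρ (tv (b • u + z) s) v = v := by
    intro u hu b z hzx hzy s
    have huz : om z u = 0 := by rcases hu with rfl | rfl <;> assumption
    have hbz : om (b • u) z = 0 := by rw [om_skew]; simp [huz]
    rw [tv_add_vec _ _ hbz, map_mul, map_mul, Module.End.mul_apply, Module.End.mul_apply, hel_smul (by rw [om_skew, huz, neg_zero]), hel_comm _ _ (by rw [om_skew, huz, neg_zero]),
      hhel u hu z hzx hzy, hv z hzx hzy, tv_smul, htv u hu]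
  have hall : ∀ u s, ρ (tv u s) v = v := by
    intro u s
    obtain ⟨a, b, h1, h3⟩ := hdec u
    set z := u - a • x - b • y with hz
    have hu : u = a • x + b • y + z := by rw [hz]; abel
    by_cases hb : b = 0
    · rw [hu, hb, zero_smul, add_zero]; exact hline x (Or.inl rfl) a z h1 h3 s
    · set g := tv x (a / (b * om y x))
      have hzx' : om z x = 0 := h1
      have hgu : act g (b • y + z) = u := by
        rw [act_tv, hu, map_add, map_smul, LinearMap.add_apply, LinearMap.smul_apply, hzx', add_zero, smul_eq_mul,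
          div_mul_cancel₀ _ (mul_ne_zero hb hyx)]
        abel
      have hc : ρ (tv u s * g) v = ρ (g * tv (b • y + z) s) v := by rw [tv_conj g, hgu]
      rw [map_mul, map_mul, Module.End.mul_apply, Module.End.mul_apply, hline y (Or.inr rfl) b z h1 h3 s,
        htv x (Or.inl rfl)] at hc
      exact hc
  refine hfix v fun g => ?_
  have hg : g ∈ Subgroup.closure (Set.range fun p : Ph F n × F => tv p.1 p.2) := by
    rw [closure_tv]; exact Subgroup.mem_top g
  induction hg using Subgroup.closure_induction with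
  | mem g h => obtain ⟨⟨u, s⟩, rfl⟩ := h; exact hall u s
  | one => rw [map_one, Module.End.one_apply]
  | mul a b _ _ ha hb => rw [map_mul, Module.End.mul_apply, hb, ha]
  | inv a _ ha =>
    conv_lhs => rw [← ha]
    rw [← Module.End.mul_apply, ← map_mul, inv_mul_cancel, map_one, Module.End.one_apply]

omit h2 hn hR hfix in
/-- An operator killed on the eigenvectors of many root groups and on their fixed vectors vanishes. -/
theorem kill_all (S : Set (Ph F n)) (T : Module.End ℂ V)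
    (h1 : ∀ w ∈ S, ∀ a ≠ 0, ∀ v, Eg ρ ψ w a v → T v = 0)
    (h3 : ∀ v, (∀ w ∈ S, ∀ s, ρ (tv w s) v = v) → T v = 0) : T = 0 := by
  refine LinearMap.ext fun v => ?_
  let K := Subgroup.closure {g | ∃ w ∈ S, ∃ s, g = tv w s}
  have hK : ∀ g ∈ K, ∀ u, T (ρ g u) = T u := by
    intro g hg
    induction hg using Subgroup.closure_induction with
    | mem g h =>
      obtain ⟨w, hw, s, rfl⟩ := h
      intro u
      refine sub_eq_zero.1 (kill_on (R := rootChar ρ w) (W := ⊤) (fun _ _ _ => Submodule.mem_top)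
        (T.comp (ρ (tv w s)) - T) (fun χ y _ hy => ?_) (Submodule.mem_top (x := u)))
      obtain ⟨a, ha⟩ := exists_param hψ χ
      have hy' : Eg ρ ψ w a y := fun r => by rw [← ha]; exact hy r
      rw [LinearMap.sub_apply, LinearMap.comp_apply, hy' s, map_smul]
      by_cases ha0 : a = 0
      · rw [ha0, zero_mul, AddChar.map_zero_eq_one, one_smul, sub_self]
      · rw [h1 w hw a ha0 y hy', smul_zero, sub_zero]
    | one => intro u; rw [map_one, Module.End.one_apply]
    | mul a b _ _ ha hb => intro u; rw [map_mul, Module.End.mul_apply, ha, hb]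
    | inv a _ ha =>
      intro u
      rw [← ha (ρ a⁻¹ u), ← Module.End.mul_apply (ρ a) (ρ a⁻¹) u, ← map_mul, mul_inv_cancel, map_one,
        Module.End.one_apply]
  letI : Fintype K := Fintype.ofFinite _
  set u := ∑ g : K, ρ g v
  have hu : ∀ w ∈ S, ∀ s, ρ (tv w s) u = u := fun w hw s => by
    rw [map_sum]
    refine Fintype.sum_equiv (Equiv.mulLeft (⟨tv w s, Subgroup.subset_closure ⟨w, hw, s, rfl⟩⟩ : K)) _ _
      fun g => ?_
    rw [Equiv.coe_mulLeft, Subgroup.coe_mul, map_mul, Module.End.mul_apply]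
  have h := h3 u hu
  rw [map_sum, Finset.sum_congr rfl fun (g : K) _ => hK g.1 g.2 v, Finset.sum_const, Finset.card_univ,
    ← Nat.cast_smul_eq_nsmul ℂ] at h
  exact (smul_eq_zero.1 h).resolve_left (Nat.cast_ne_zero.2 Fintype.card_ne_zero)

omit hn hfix in
/-- Commuting root groups share a class. -/
theorem class_orth {z w : Ph F n} (hzw : om z w = 0) {c d a : F} {v : V} (hc : c ≠ 0) (hd : d ≠ 0) (hv : v ≠ 0)
    (hz : Eg ρ ψ z (c * d ^ 2) v) (hw : Eg ρ ψ w a v) : ∃ e, a = c * e ^ 2 := by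
  by_contra hne
  push Not at hne
  let W : Submodule ℂ V := eig (rootChar ρ z) ⊤ (AddChar.mulShift ψ (c * d ^ 2)) ⊓
    eig (rootChar ρ w) ⊤ (AddChar.mulShift ψ a)
  have hW : ∀ p, ∀ y ∈ W, ρ (pel z w p) y ∈ W := fun p y hy => by
    have hwz : om w z = 0 := by rw [om_skew, hzw, neg_zero]
    have h1 : act (pel z w p) z = z := by rw [act_pel hzw, om_self, hzw]; simp
    have h3 : act (pel z w p) w = w := by rw [act_pel hzw, om_self, hwz]; simp
    exact ⟨⟨Submodule.mem_top, (show Eg ρ ψ z _ y from fun r => hy.1.2 r).commute_map _ h1⟩,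
      ⟨Submodule.mem_top, (show Eg ρ ψ w _ y from fun r => hy.2.2 r).commute_map _ h3⟩⟩
  refine hv (kill_pair hψ hzw hW (LinearMap.id (R := ℂ) (M := V)) (fun y hy a' b' t ha hb ht => ?_)
    (show v ∈ W from ⟨⟨Submodule.mem_top, hz⟩, ⟨Submodule.mem_top, hw⟩⟩))
  by_contra h0
  have e1 : a' = c * d ^ 2 := ha.unique hψ (show Eg ρ ψ z _ y from fun r => hy.1.2 r) h0
  have e2 : b' = a := hb.unique hψ (show Eg ρ ψ w _ y from fun r => hy.2.2 r) h0
  have h4 := hR z w hzw y h0 a' b' t ha hb ht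
  rw [e1, e2] at h4
  refine hne (t / (2 * c * d)) ?_
  field_simp
  linear_combination -h4

/-- An irreducible representation has a single class. -/
theorem inClass_of_irreducible (hirr : ∀ U : Submodule ℂ V, (∀ g, ∀ v ∈ U, ρ g v ∈ U) → U = ⊥ ∨ U = ⊤)
    {c d : F} (hc : c ≠ 0) (hd : d ≠ 0) {z : Ph F n} {v₀ : V} (hz : Eg ρ ψ z (c * d ^ 2) v₀) (hv₀ : v₀ ≠ 0) :
    InClass ρ ψ c := by
  let U : Submodule ℂ V := ⨅ (x : Ph F n) (a : F) (_ : ∀ e, a ≠ c * e ^ 2), LinearMap.ker (pr ρ ψ x a)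
  have hU : ∀ v, v ∈ U ↔ ∀ x a, (∀ e, a ≠ c * e ^ 2) → pr ρ ψ x a v = 0 := fun v => by
    simp only [U, Submodule.mem_iInf, LinearMap.mem_ker]
  have hinv : ∀ g, ∀ v ∈ U, ρ g v ∈ U := fun g v hv => (hU _).2 fun x a ha => by
    rw [← act_act_inv g x, ← pr_conj, (hU v).1 hv _ a ha, map_zero]
  have hz0 : v₀ ∈ U := (hU _).2 fun x a ha => by
    have hA : pr ρ ψ x a * pr ρ ψ z (c * d ^ 2) = 0 := by
      refine kill_all (ρ := ρ) hψ {w | om w x = 0 ∧ om w z = 0} _ ?_ ?_
      · rintro w ⟨hwx, hwz⟩ b hb v hv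
        have hzw : om z w = 0 := by rw [om_skew, hwz, neg_zero]
        set v' := pr ρ ψ z (c * d ^ 2) v with hv'
        have h1 : Eg ρ ψ w b v' := fun s => by
          rw [hv', pr_conj, show act (tv w s) z = z by rw [act_tv, hzw]; simp, hv s, map_smul]
        rw [Module.End.mul_apply, ← hv']
        by_cases h0 : v' = 0
        · rw [h0, map_zero]
        obtain ⟨e, rfl⟩ := class_orth hψ h2 hR hzw hc hd h0 (pr_mem _ _ _) h1
        have he : e ≠ 0 := fun h => hb (by rw [h]; ring)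
        have hxw : om x w = 0 := by rw [om_skew, hwx, neg_zero]
        by_contra h4
        have h5 : Eg ρ ψ w (c * e ^ 2) (pr ρ ψ x a v') := fun s => by
          rw [pr_conj, show act (tv w s) x = x by rw [act_tv, hxw]; simp, h1 s, map_smul]
        obtain ⟨e', he'⟩ := class_orth hψ h2 hR hwx hc he h4 h5 (pr_mem _ _ _)
        exact ha e' he'
      · intro v hv
        by_cases hxz : om x z = 0
        · rw [Module.End.mul_apply, pr_eig hψ (show Eg ρ ψ z 0 v from fun s => by
            rw [hv z ⟨by rw [om_skew, hxz, neg_zero], om_self z⟩ s, zero_mul, AddChar.map_zero_eq_one, one_smul]),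
            if_neg (Ne.symm (mul_ne_zero hc (pow_ne_zero 2 hd))), map_zero]
        · rw [fixed_eq_zero hψ h2 hn hR hfix hxz fun w h1 h3 => hv w ⟨h1, h3⟩, map_zero]
    have h := LinearMap.congr_fun hA v₀
    rw [Module.End.mul_apply, pr_eig hψ hz, if_pos rfl, map_smul] at h
    exact (smul_eq_zero.1 h).resolve_left qC_ne_zero
  have htop : U = ⊤ := (hirr U hinv).resolve_left fun h => hv₀ (by rw [h] at hz0; exact (Submodule.mem_bot ℂ).1 hz0)
  intro x a v hv hv0
  by_contra hne
  push Not at hne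
  have h := (hU v).1 (htop ▸ Submodule.mem_top) x a hne
  rw [pr_eig hψ hv, if_pos rfl] at h
  exact hv0 ((smul_eq_zero.1 h).resolve_left qC_ne_zero)

omit hn hR hfix in
theorem kap_sum {c : F} (hc : c ≠ 0) (e : F) :
    ∑ s, kap ψ c s * ψ (c * e ^ 2 * s) = qC * cs ψ c e := by
  have hs : ∀ s, kap ψ c s * ψ (c * e ^ 2 * s) =
      2⁻¹ * (ψ (c * e ^ 2 * s) + ∑ b, ψ (2 * c * b) * ψ (c * (e ^ 2 - b ^ 2) * s)) := fun s => by
    rw [kap, mul_assoc, add_mul, one_mul, Finset.sum_mul]
    congr 2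
    refine Finset.sum_congr rfl fun b _ => ?_
    rw [← AddChar.map_add_eq_mul, ← AddChar.map_add_eq_mul]
    congr 1
    ring
  simp only [hs, ← Finset.mul_sum, Finset.sum_add_distrib]
  rw [Finset.sum_comm, sum_mul hψ]
  simp only [← Finset.mul_sum, sum_mul hψ, mul_eq_zero, hc, false_or, sub_eq_zero, pow_eq_zero_iff two_ne_zero]
  have h4 := sum_sq h2 (fun b => ψ (2 * c * b)) e
  simp only [mul_zero, mul_neg, AddChar.map_zero_eq_one] at h4
  rw [cs, ← h4]
  have e1 : ∀ b : F, ψ (2 * c * b) * (if e ^ 2 = b ^ 2 then qC else 0) =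
      qC * (if b ^ 2 = e ^ 2 then ψ (2 * c * b) else 0) := fun b => by
    by_cases hb : b ^ 2 = e ^ 2
    · rw [if_pos hb, if_pos hb.symm, mul_comm]
    · rw [if_neg hb, if_neg (Ne.symm hb), mul_zero, mul_zero]
  simp only [e1, ← Finset.mul_sum]
  generalize (∑ b : F, if b ^ 2 = e ^ 2 then ψ (2 * c * b) else 0) = S
  have := qC_ne_zero (F := F)
  split_ifs <;> field_simp <;> ring

omit hn hR hfix in
theorem cosOp_eig {c e : F} (hc : c ≠ 0) {x : Ph F n} {v : V} (h : Eg ρ ψ x (c * e ^ 2) v) :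
    cosOp ρ ψ c x v = cs ψ c e • v := by
  simp only [cosOp, LinearMap.smul_apply, LinearMap.sum_apply, h.app, smul_smul, ← Finset.sum_smul]
  rw [kap_sum hψ h2 hc, inv_mul_cancel_left₀ qC_ne_zero]

omit hn hR hfix in
theorem cosOp_fixed {c : F} (hc : c ≠ 0) {x : Ph F n} {v : V} (h : ∀ s, ρ (tv x s) v = v) :
    cosOp ρ ψ c x v = v := by
  rw [cosOp_eig hψ h2 hc (e := 0) (fun s => by rw [h s]; simp [zero_pow two_ne_zero]), cs]
  simp only [mul_zero, neg_zero, AddChar.map_zero_eq_one]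
  rw [← two_mul, mul_one, inv_mul_cancel₀ two_ne_zero, one_smul]

omit hn hfix in
/-- On an eigenspace the cosine operators come from the Heisenberg group. -/
theorem cosOp_eq_hel {c r : F} (hc : c ≠ 0) (hr : r ≠ 0) {x w : Ph F n} (hxw : om x w = 0) {v : V}
    (hv : Eg ρ ψ w (c * r ^ 2) v) :
    cosOp ρ ψ c x v = (2 : ℂ)⁻¹ • (ρ (hel (r⁻¹ • x) w 1) v + ρ (hel (-(r⁻¹ • x)) w 1) v) := by
  rw [← neg_smul, hel_smul hxw, hel_smul hxw, one_mul, one_mul]
  let W : Submodule ℂ V := eig (rootChar ρ w) ⊤ (AddChar.mulShift ψ (c * r ^ 2))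
  have hW : ∀ p, ∀ y ∈ W, ρ (pel x w p) y ∈ W := fun p y hy => ⟨Submodule.mem_top,
    (show Eg ρ ψ w _ y from fun s => hy.2 s).commute_map (pel x w p) (by
      rw [act_pel hxw, om_self, show om w x = 0 by rw [om_skew, hxw, neg_zero]]; simp)⟩
  refine sub_eq_zero.1 (kill_pair hψ hxw hW
    (cosOp ρ ψ c x - (2 : ℂ)⁻¹ • (ρ (hel x w r⁻¹) + ρ (hel x w (-r⁻¹))))
    (fun y hy a b t ha hb ht => ?_) (show v ∈ W from ⟨Submodule.mem_top, hv⟩))
  by_cases h0 : y = 0
  · simp [h0]
  have e1 : b = c * r ^ 2 := hb.unique hψ (show Eg ρ ψ w _ y from fun s => hy.2 s) h0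
  have e2 := hR x w hxw y h0 a b t ha hb ht
  rw [e1] at e2
  set e := t / (2 * c * r) with he
  have e3 : t = 2 * c * r * e := by
    rw [he, mul_div_cancel₀ _ (mul_ne_zero (mul_ne_zero h2 hc) hr)]
  have ha' : Eg ρ ψ x (c * e ^ 2) y := by
    have : a = c * e ^ 2 := by rw [he]; field_simp; linear_combination -e2
    exact this ▸ ha
  rw [LinearMap.sub_apply, LinearMap.smul_apply, LinearMap.add_apply, cosOp_eig hψ h2 hc ha', ht, ht,
    ← add_smul, smul_smul, sub_eq_zero, cs]
  congr 4 <;> rw [e3] <;> field_simp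

/-- D'Alembert's equation. -/
theorem cosOp_mul {c : F} (hc : c ≠ 0) (hcl : InClass ρ ψ c) (x y : Ph F n) :
    cosOp ρ ψ c x * cosOp ρ ψ c y =
      (2 : ℂ)⁻¹ • (ψ (c * om y x) • cosOp ρ ψ c (x + y) + ψ (-(c * om y x)) • cosOp ρ ψ c (x - y)) := by
  rw [← sub_eq_zero]
  refine kill_all (ρ := ρ) hψ {w | om w x = 0 ∧ om w y = 0} _ ?_ ?_
  · rintro w ⟨hwx, hwy⟩ a ha v hv
    by_cases h0 : v = 0
    · rw [h0, map_zero]
    obtain ⟨r, rfl⟩ := hcl w a v hv h0
    have hr : r ≠ 0 := fun h => ha (by rw [h]; ring)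
    have hxw : om x w = 0 := by rw [om_skew, hwx, neg_zero]
    have hyw : om y w = 0 := by rw [om_skew, hwy, neg_zero]
    have hC : ∀ {u : Ph F n}, om u w = 0 → cosOp ρ ψ c u v =
        (2 : ℂ)⁻¹ • (ρ (hel (r⁻¹ • u) w 1) v + ρ (hel (-(r⁻¹ • u)) w 1) v) :=
      fun hu => cosOp_eq_hel hψ h2 hR hc hr hu hv
    have hmem : ∀ u, om u w = 0 → Eg ρ ψ w (c * r ^ 2) (ρ (hel u w 1) v) := fun u hu =>
      hv.commute_map _ (by rw [act_hel hu, om_self, show om w u = 0 by rw [om_skew, hu, neg_zero]]; simp)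
    have hmul : ∀ u u', om u w = 0 → om u' w = 0 →
        ρ (hel u w 1) (ρ (hel u' w 1) v) = ψ (c * r ^ 2 * om u' u) • ρ (hel (u + u') w 1) v := fun u u' hu hu' => by
      rw [← Module.End.mul_apply, ← map_mul, hel_mul_hel hu hu', map_mul, Module.End.mul_apply, hv, map_smul]
    have h1 : om (r⁻¹ • y) w = 0 := by simp [hyw]
    have h3 : om (-(r⁻¹ • y)) w = 0 := by simp [hyw]
    have h4 : om (r⁻¹ • x) w = 0 := by simp [hxw]
    have h5 : om (-(r⁻¹ • x)) w = 0 := by simp [hxw]
    have k1 : c * r ^ 2 * (r⁻¹ * (r⁻¹ * om y x)) = c * om y x := by field_simp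
    simp only [LinearMap.sub_apply, Module.End.mul_apply, LinearMap.smul_apply, LinearMap.add_apply,
      hC (show om (x + y) w = 0 by simp [hxw, hyw]), hC (show om (x - y) w = 0 by simp [hxw, hyw]), hC hyw,
      map_smul, map_add, cosOp_eq_hel hψ h2 hR hc hr hxw (hmem _ h1),
      cosOp_eq_hel hψ h2 hR hc hr hxw (hmem _ h3), hmul _ _ h4 h1, hmul _ _ h4 h3, hmul _ _ h5 h1, hmul _ _ h5 h3]
    simp only [map_neg, map_smul, LinearMap.neg_apply, LinearMap.smul_apply, smul_eq_mul, mul_neg, neg_neg, k1,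
      smul_add, smul_sub, neg_add_rev, neg_sub, ← sub_eq_add_neg]
    rw [show -(r⁻¹ • x) + r⁻¹ • y = r⁻¹ • y - r⁻¹ • x by abel,
      show -(r⁻¹ • x) - r⁻¹ • y = -(r⁻¹ • y) - r⁻¹ • x by abel]
    module
  · intro v hv
    by_cases hxy : om x y = 0
    · have hyx : om y x = 0 := by rw [om_skew, hxy, neg_zero]
      have hf : ∀ u : Ph F n, om u x = 0 → om u y = 0 → cosOp ρ ψ c u v = v := fun u h1 h3 =>
        cosOp_fixed hψ h2 hc (hv u ⟨h1, h3⟩)
      simp only [LinearMap.sub_apply, Module.End.mul_apply, LinearMap.smul_apply, LinearMap.add_apply,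
        hf y hyx (om_self y), hf x (om_self x) hxy, hyx, mul_zero, neg_zero, AddChar.map_zero_eq_one, one_smul,
        hf (x + y) (by simp [om_self, hyx]) (by simp [om_self, hxy]),
        hf (x - y) (by simp [om_self, hyx]) (by simp [om_self, hxy])]
      module
    · rw [fixed_eq_zero hψ h2 hn hR hfix hxy fun w h1 h3 => hv w ⟨h1, h3⟩, map_zero]

omit hn hR hfix in
/-- The transvections are recovered from the cosine operators. -/
theorem tv_eq_cosOp {c : F} (hc : c ≠ 0) (hcl : InClass ρ ψ c) (x : Ph F n) (s : F) :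
    ρ (tv x s) = qC⁻¹ • ∑ b, ∑ t, ψ (s * c * b ^ 2 - 2 * c * b * t) • cosOp ρ ψ c (t • x) := by
  rw [← sub_eq_zero]
  refine LinearMap.ext fun v => kill_on (R := rootChar ρ x) (W := ⊤) (fun _ _ _ => Submodule.mem_top) _
    (fun χ y _ hy => ?_) (Submodule.mem_top (x := v))
  obtain ⟨a, ha⟩ := exists_param hψ χ
  have hy' : Eg ρ ψ x a y := fun r => by rw [← ha]; exact hy r
  by_cases h0 : y = 0
  · rw [h0, map_zero]
  obtain ⟨e, rfl⟩ := hcl x a y hy' h0
  have ht : ∀ t : F, Eg ρ ψ (t • x) (c * (e * t) ^ 2) y := fun t => by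
    have := hy'.of_smul t
    rwa [mul_assoc, ← mul_pow] at this
  simp only [LinearMap.sub_apply, LinearMap.smul_apply, LinearMap.sum_apply, hy'.app s,
    fun t => cosOp_eig hψ h2 hc (ht t), smul_smul, ← Finset.sum_smul]
  rw [← sub_smul]
  refine smul_eq_zero.2 (Or.inl (sub_eq_zero.2 ?_))
  have e1 : ∀ b, (∑ t, ψ (s * c * b ^ 2 - 2 * c * b * t) * cs ψ c (e * t)) =
      ψ (s * c * b ^ 2) * (2⁻¹ * ((if e - b = 0 then qC else 0) + (if e + b = 0 then qC else 0))) := fun b => by
    have k : ∀ t, ψ (s * c * b ^ 2 - 2 * c * b * t) * cs ψ c (e * t) =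
        ψ (s * c * b ^ 2) * (2⁻¹ * (ψ (2 * c * (e - b) * t) + ψ (-(2 * c * (e + b)) * t))) := fun t => by
      rw [cs, show ψ (s * c * b ^ 2 - 2 * c * b * t) = ψ (s * c * b ^ 2) * ψ (-(2 * c * b * t)) by
        rw [← AddChar.map_add_eq_mul, sub_eq_add_neg],
        show ψ (2 * c * (e - b) * t) = ψ (-(2 * c * b * t)) * ψ (2 * c * (e * t)) by
          rw [← AddChar.map_add_eq_mul]; congr 1; ring,
        show ψ (-(2 * c * (e + b)) * t) = ψ (-(2 * c * b * t)) * ψ (-(2 * c * (e * t))) by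
          rw [← AddChar.map_add_eq_mul]; congr 1; ring]
      ring
    simp only [k, ← Finset.mul_sum, Finset.sum_add_distrib, sum_mul hψ]
    simp [mul_eq_zero, h2, hc]
  simp only [e1, mul_add, Finset.sum_add_distrib, sub_eq_zero, add_eq_zero_iff_eq_neg, mul_ite, mul_zero,
    Finset.sum_ite_eq, Finset.mem_univ, if_true]
  have e2 : (∑ b : F, if e = -b then ψ (s * c * b ^ 2) * (2⁻¹ * qC) else 0) =
      ψ (s * c * e ^ 2) * (2⁻¹ * qC) := by
    rw [Finset.sum_eq_single (-e) (fun b _ hb => if_neg fun h => hb (by rw [h, neg_neg]))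
      (fun h => absurd (Finset.mem_univ _) h), if_pos (neg_neg e).symm, neg_sq]
  rw [e2, show s * c * e ^ 2 = c * e ^ 2 * s by ring]
  have := qC_ne_zero (F := F)
  field_simp
  ring

end Cfsg.Agent.WeilClass
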