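/-
The Weil representations attached to the class of c: transvections, irreducible parts.
-/
import Cfsg.Agent.Lib.WeilClass.Cosine

set_option autoImplicit false
set_option linter.unusedSectionVars false
set_option linter.style.haveILetI false

namespace Cfsg.Agent.WeilClass

open Matrix Finset Cfsg.Agent.WeilRep Cfsg.Agent.EigenChar

variable {F : Type*} [Field F] [Fintype F] [DecidableEq F] {n : ℕ}

local notation "om" => ClassicalSp.spBilin n F
local notation "qC" => (Fintype.card F : ℂ)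

/-- Symplectic groups are transitive on the non-zero vectors. -/
theorem exists_act_eq {u v : Ph F n} (hu : u ≠ 0) (hv : v ≠ 0) :
    ∃ g : symplecticGroup (Fin n) F, act g u = v := by
  have step : ∀ {u v : Ph F n}, om u v ≠ 0 → ∃ g : symplecticGroup (Fin n) F, act g u = v := fun {u v} h =>
    ⟨tv (v - u) (om u v)⁻¹, by
      rw [act_tv, map_sub, om_self, sub_zero, inv_mul_cancel₀ h, one_smul, add_sub_cancel]⟩
  obtain ⟨w, h1, h3⟩ : ∃ w, om u w ≠ 0 ∧ om w v ≠ 0 := by
    have k : ∀ x : Ph F n, x ≠ 0 → ∃ w, om w x ≠ 0 := fun x hx => by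
      by_contra h
      push Not at h
      exact hx (ClassicalSp.spBilin_nondeg.2 x h)
    obtain ⟨w1, hw1⟩ := k u hu
    obtain ⟨w2, hw2⟩ := k v hv
    have hw1' : om u w1 ≠ 0 := by rw [om_skew]; exact neg_ne_zero.2 hw1
    by_cases a : om w1 v = 0
    · by_cases b : om u w2 = 0
      · exact ⟨w1 + w2, by simp [b, hw1'], by simp [a, hw2]⟩
      · exact ⟨w2, b, hw2⟩
    · exact ⟨w1, hw1', a⟩
  obtain ⟨g, hg⟩ := step h1
  obtain ⟨g', hg'⟩ := step h3
  exact ⟨g' * g, by rw [act_mul, hg, hg']⟩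

variable (ψ : AddChar F ℂ) (c : F)

/-- The Heisenberg parameter of the class of c. -/
noncomputable abbrev psic : AddChar F ℂ := AddChar.mulShift ψ (-(2 * c))

/-- The operator of a transvection. -/
noncomputable def Mop (x : Ph F n) (s : F) : Module.End ℂ (Fn F n) :=
  qC⁻¹ • ∑ b, ∑ t, ψ (s * c * b ^ 2 - 2 * c * b * t) • D (psic ψ c) (t • x)

/-- The even Heisenberg operators. -/
noncomputable def C0 (v : Ph F n) : Module.End ℂ (Fn F n) :=
  (2 : ℂ)⁻¹ • (D (psic ψ c) v + D (psic ψ c) (-v))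

variable {ψ c} (hψ : ψ ≠ 1) (h2 : (2 : F) ≠ 0) (hc : c ≠ 0)
include hψ h2 hc

theorem psic_ne_one : psic ψ c ≠ 1 :=
  AddChar.IsPrimitive.of_ne_one hψ (neg_ne_zero.2 (mul_ne_zero h2 hc))

omit hψ hc in
theorem Dc_mul (v w : Ph F n) :
    D (psic ψ c) v * D (psic ψ c) w = ψ (c * om w v) • D (psic ψ c) (v + w) := by
  rw [D_mul _ h2, AddChar.mulShift_apply, ← ClassicalSp.spBilin_apply, om_skew w v]
  congr 2
  field_simp

omit hψ hc in
theorem Mop_mul_D (x : Ph F n) (s : F) (v : Ph F n) :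
    Mop ψ c x s * D (psic ψ c) v = D (psic ψ c) (act (tv x s) v) * Mop ψ c x s := by
  simp only [Mop, smul_mul_assoc, mul_smul_comm, Finset.sum_mul, Finset.mul_sum, Dc_mul h2, smul_smul,
    ← AddChar.map_add_eq_mul, act_tv]
  congr 1
  set k := om v x with hk
  have e : ∀ t b : F, ψ (s * c * b ^ 2 - 2 * c * b * t + c * om (t • x) (v + (s * k) • x)) •
        D (psic ψ c) (v + (s * k) • x + t • x) =
      ψ (s * c * b ^ 2 - 2 * c * b * t - c * t * k) • D (psic ψ c) (v + (t + s * k) • x) := fun t b => by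
    rw [show v + (s * k) • x + t • x = v + (t + s * k) • x by module]
    congr 2
    simp only [map_add, map_smul, LinearMap.smul_apply, om_self, smul_eq_mul, hk, om_skew v x]
    ring
  have e' : ∀ t b : F, ψ (s * c * b ^ 2 - 2 * c * b * t + c * om v (t • x)) • D (psic ψ c) (t • x + v) =
      ψ (s * c * b ^ 2 - 2 * c * b * t + c * t * k) • D (psic ψ c) (v + t • x) := fun t b => by
    rw [add_comm (t • x)]
    congr 2
    simp only [map_smul, smul_eq_mul, hk]
    ring
  simp only [e, e']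
  symm
  refine Fintype.sum_equiv (Equiv.addRight k) _ _ fun b => ?_
  refine Fintype.sum_equiv (Equiv.addRight (s * k)) _ _ fun t => ?_
  rw [Equiv.coe_addRight, Equiv.coe_addRight]
  congr 2
  ring

omit hψ h2 hc in
theorem D_sv (t : F) (a : Fin n → F) (f : Fn F n) (y : Fin n → F) :
    D (psic ψ c) (t • sv a) f y = ψ (-(2 * c * t * (a ⬝ᵥ y))) * f y := by
  rw [D_apply, show (t • sv a) ∘ Sum.inl = t • a from rfl,
    show (t • sv a) ∘ Sum.inr = (0 : Fin n → F) from funext fun i => by simp [sv],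
    add_zero, zero_dotProduct, mul_zero, add_zero, smul_dotProduct, smul_eq_mul, AddChar.mulShift_apply]
  congr 2
  ring

theorem Mop_sv (a : Fin n → F) (s : F) (f : Fn F n) (y : Fin n → F) :
    Mop ψ c (sv a) s f y = ψ (s * c * (a ⬝ᵥ y) ^ 2) * f y := by
  simp only [Mop, LinearMap.smul_apply, LinearMap.sum_apply, Pi.smul_apply, Finset.sum_apply, smul_eq_mul,
    D_sv, ← mul_assoc, ← AddChar.map_add_eq_mul, ← Finset.sum_mul]
  congr 1
  set u := a ⬝ᵥ y
  have e : ∀ b : F, (∑ t, ψ (s * c * b ^ 2 - 2 * c * b * t + -(2 * c * t * u))) =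
      if b = -u then ψ (s * c * b ^ 2) * qC else 0 := fun b => by
    have k : ∀ t, ψ (s * c * b ^ 2 - 2 * c * b * t + -(2 * c * t * u)) =
        ψ (s * c * b ^ 2) * ψ (-(2 * c) * (b + u) * t) := fun t => by
      rw [← AddChar.map_add_eq_mul]; congr 1; ring
    simp only [k, ← Finset.mul_sum, sum_mul hψ, mul_ite, mul_zero]
    exact if_congr (by simp [mul_eq_zero, h2, hc, add_eq_zero_iff_eq_neg]) rfl rfl
  simp only [e, Finset.sum_ite_eq', Finset.mem_univ, if_true, neg_sq]
  have := qC_ne_zero (F := F)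
  field_simp

theorem weilOp_tv (hn : 2 ≤ n) (x : Ph F n) (s : F) :
    ((weil (psic ψ c) h2 (psic_ne_one hψ h2 hc) (tv x s)).1 : Module.End ℂ (Fn F n)) = Mop ψ c x s := by
  set hp := psic_ne_one hψ h2 hc
  set W : symplecticGroup (Fin n) F → Module.End ℂ (Fn F n) := fun g => ((weil (psic ψ c) h2 hp g).1 : _) with hW
  have W_mul : ∀ g h, W (g * h) = W g * W h := fun g h => by
    simp only [hW, map_mul, Subgroup.coe_mul, Units.val_mul]
  have W_one : W 1 = 1 := by simp only [hW, map_one, Subgroup.coe_one, Units.val_one]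
  have W_inter : ∀ g v, W g * D (psic ψ c) v = D (psic ψ c) (act g v) * W g := weil_inter _ h2 hp
  have W_conj : ∀ g y r, W g * Mop ψ c y r = Mop ψ c (act g y) r * W g := fun g y r => by
    simp only [Mop, smul_mul_assoc, mul_smul_comm, Finset.sum_mul, Finset.mul_sum, W_inter,
      show ∀ t : F, act g (t • y) = t • act g y from fun t => mulVec_smul _ t y]
  -- all transvections agree with a common scalar multiple of the model
  obtain ⟨a0, a1, h01⟩ : ∃ a0 a1 : Fin n → F, sv a0 ≠ 0 ∧ sv a1 ≠ 0 ∧ sv (a0 + a1) ≠ 0 ∧ sv (a0 - a1) ≠ 0 := by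
    let i0 : Fin n := ⟨0, by omega⟩
    let i1 : Fin n := ⟨1, by omega⟩
    have h : i0 ≠ i1 := by simp [i0, i1]
    have k : ∀ a : Fin n → F, ∀ i, a i ≠ 0 → sv a ≠ 0 := fun a i hi h => hi (congrFun h (Sum.inl i))
    exact ⟨Pi.single i0 1, Pi.single i1 1, k _ i0 (by simp), k _ i1 (by simp), k _ i0 (by simp [h]),
      k _ i0 (by simp [h])⟩
  have hinv : ∀ (a : Fin n → F) (r : F), Mop ψ c (sv a) r * Mop ψ c (sv a) (-r) = 1 := fun a r =>
    LinearMap.ext fun f => funext fun y => by
      rw [Module.End.mul_apply, Mop_sv hψ h2 hc, Mop_sv hψ h2 hc, ← mul_assoc, ← AddChar.map_add_eq_mul]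
      simp [neg_mul]
  obtain ⟨K, hK⟩ : ∃ K : F → ℂ, ∀ r, W (tv (sv a0) r) = K r • Mop ψ c (sv a0) r := by
    suffices h : ∀ r, ∃ k : ℂ, W (tv (sv a0) r) = k • Mop ψ c (sv a0) r by
      choose K hK using h
      exact ⟨K, hK⟩
    intro r
    obtain ⟨k, hk⟩ := exists_scalar (psic ψ c) h2 hp (A := Mop ψ c (sv a0) (-r) * W (tv (sv a0) r)) fun v => by
      rw [mul_assoc, W_inter, ← mul_assoc, Mop_mul_D h2, mul_assoc, ← act_mul, ← tv_add, neg_add_cancel,
        tv_zero, act_one]
    refine ⟨k, ?_⟩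
    have := congrArg (Mop ψ c (sv a0) r * ·) hk
    rwa [← mul_assoc, hinv, one_mul, mul_smul_comm, mul_one] at this
  have hall : ∀ y : Ph F n, y ≠ 0 → ∀ r, W (tv y r) = K r • Mop ψ c y r := fun y hy r => by
    obtain ⟨g, rfl⟩ := exists_act_eq h01.1 hy
    calc W (tv (act g (sv a0)) r) = W (tv (act g (sv a0)) r * g) * W g⁻¹ := by
          rw [W_mul _ g, mul_assoc, ← W_mul g g⁻¹, mul_inv_cancel, W_one, mul_one]
      _ = W g * (K r • Mop ψ c (sv a0) r) * W g⁻¹ := by rw [← tv_conj, W_mul, hK]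
      _ = _ := by
        rw [mul_smul_comm, W_conj, smul_mul_assoc, mul_assoc, ← W_mul, mul_inv_cancel, W_one, mul_one]
  have val : ∀ (a : Fin n → F) (r : F), sv a ≠ 0 → ∀ f y, W (tv (sv a) r) f y = K r * (ψ (r * c * (a ⬝ᵥ y) ^ 2) * f y) :=
    fun a r ha f y => by rw [hall _ ha, LinearMap.smul_apply, Pi.smul_apply, Mop_sv hψ h2 hc, smul_eq_mul]
  have one0 : ∀ r, W (tv (sv a0) r) (fun _ => 1) 0 = K r := fun r => by
    rw [val a0 r h01.1]; simp
  have hadd : ∀ r r', K (r + r') = K r * K r' := fun r r' => by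
    rw [← one0, tv_add, W_mul, Module.End.mul_apply, val a0 r h01.1, one0]; simp
  have hpar : ∀ r, K r * K r = K (2 * r) * K (2 * r) := fun r => by
    have h := congrArg (fun T : Module.End ℂ (Fn F n) => T (fun _ => 1) 0)
      (congrArg W (tv_parallelogram (sv a0) (sv a1) (om_sv_sv a0 a1) r))
    rw [← sv_add, show sv a0 - sv a1 = sv (a0 - a1) by funext i; cases i <;> simp [sv]] at h
    simp only [W_mul, Module.End.mul_apply, val _ _ h01.1, val _ _ h01.2.1, val _ _ h01.2.2.1,
      val _ _ h01.2.2.2] at h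
    simpa using h
  have hne : ∀ r, K r ≠ 0 := fun r h => by
    have := hadd r (-r)
    rw [h, zero_mul, add_neg_cancel, ← one0, tv_zero, W_one] at this
    exact one_ne_zero this
  have hone : ∀ r, K r = 1 := fun r => by
    have h1 := hpar (r / 2)
    rw [show 2 * (r / 2) = r by field_simp, ← hadd, show r / 2 + r / 2 = r by field_simp; ring] at h1
    exact (mul_eq_left₀ (hne r)).1 h1.symm
  show W (tv x s) = _
  by_cases hx : x = 0
  · subst hx
    rw [tv_zero_vec, W_one]
    refine LinearMap.ext fun f => funext fun y => ?_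
    rw [show (0 : Ph F n) = sv 0 by funext i; cases i <;> simp [sv], Mop_sv hψ h2 hc]
    simp
  · rw [hall x hx, hone, one_smul]

/-- The even Heisenberg operators are combinations of transvections. -/
theorem C0_eq (v : Ph F n) : C0 ψ c v = qC⁻¹ • ∑ s, kap ψ c s • Mop ψ c v s := by
  have h : ∀ b t : F, (∑ s, kap ψ c s * ψ (s * c * b ^ 2 - 2 * c * b * t)) =
      qC * (cs ψ c b * ψ (-(2 * c * b * t))) := fun b t => by
    rw [← mul_assoc, ← kap_sum hψ h2 hc, Finset.sum_mul]
    refine Finset.sum_congr rfl fun s _ => ?_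
    rw [mul_assoc (kap ψ c s), ← AddChar.map_add_eq_mul]
    congr 2
    ring
  have h' : ∀ t : F, (∑ b, cs ψ c b * ψ (-(2 * c * b * t))) =
      2⁻¹ * ((if t = 1 then qC else 0) + if t = -1 then qC else 0) := fun t => by
    have k : ∀ b, cs ψ c b * ψ (-(2 * c * b * t)) =
        2⁻¹ * (ψ (2 * c * (1 - t) * b) + ψ (-(2 * c) * (1 + t) * b)) := fun b => by
      rw [cs, mul_assoc, add_mul, ← AddChar.map_add_eq_mul, ← AddChar.map_add_eq_mul]
      congr 3 <;> ring
    simp only [k, ← Finset.mul_sum, Finset.sum_add_distrib, sum_mul hψ, mul_eq_zero, neg_eq_zero, h2, hc,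
      or_self, false_or, sub_eq_zero, eq_comm (a := (1 : F)), add_eq_zero_iff_eq_neg']
  have e0 : ∀ b t : F, cs ψ c b * ψ (-(2 * c * b * t)) =
      ∑ s, kap ψ c s * (qC⁻¹ * ψ (s * c * b ^ 2 - 2 * c * b * t)) := fun b t => by
    simp only [mul_left_comm _ qC⁻¹, ← Finset.mul_sum, h, inv_mul_cancel_left₀ (qC_ne_zero (F := F))]
  have e : ∑ s, kap ψ c s • Mop ψ c v s =
      ∑ t, ((∑ b, cs ψ c b * ψ (-(2 * c * b * t))) • D (psic ψ c) (t • v)) := by
    simp only [e0]
    simp only [Mop, Finset.smul_sum, Finset.sum_smul, smul_smul, mul_assoc]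
    rw [Finset.sum_congr rfl fun s _ => Finset.sum_comm, Finset.sum_comm]
    exact Finset.sum_congr rfl fun t _ => Finset.sum_comm
  rw [e]
  simp only [h', mul_add, add_smul, Finset.sum_add_distrib, mul_ite, mul_zero, ite_smul, zero_smul,
    Finset.sum_ite_eq', Finset.mem_univ, if_true, one_smul, neg_one_smul, C0, smul_add, smul_smul]
  have := qC_ne_zero (F := F)
  congr 2 <;> field_simp

/-- The representation on a part. -/
noncomputable def wpart (ε : ℂ) : Representation ℂ (symplecticGroup (Fin n) F) (part F n ε) :=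
  (res ε).comp (weil (psic ψ c) h2 (psic_ne_one hψ h2 hc))

theorem wpart_tv (hn : 2 ≤ n) (ε : ℂ) (x : Ph F n) (s : F) (f : part F n ε) :
    ((wpart hψ h2 hc ε (tv x s) f : part F n ε) : Fn F n) = Mop ψ c x s f.1 := by
  show ((res ε (weil (psic ψ c) h2 _ (tv x s)) f : part F n ε) : Fn F n) = _
  rw [res_apply, weilOp_tv hψ h2 hc hn]

/-- A subspace of a part stable under the even operators is trivial. -/
theorem stable_eq {ε : ℂ} (hε : ε * ε = 1) {K : Submodule ℂ (Fn F n)} (hle : K ≤ part F n ε)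
    (hK : ∀ v, ∀ f ∈ K, C0 ψ c v f ∈ K) {f : Fn F n} (hf : f ∈ K) (hf0 : f ≠ 0) : K = part F n ε := by
  have hall : ∀ A : Module.End ℂ (Fn F n), ∀ k ∈ K, (A + par F n * A * par F n) k ∈ K := fun A k hk => by
    have hA : A ∈ Submodule.span ℂ (Set.range fun v : Ph F n => D (psic ψ c) v) :=
      D_span (psic ψ c) h2 (psic_ne_one hψ h2 hc) ▸ Submodule.mem_top
    induction hA using Submodule.span_induction with
    | mem T hT =>
      obtain ⟨v, rfl⟩ := hT
      have h : D (psic ψ c) v + par F n * D (psic ψ c) v * par F n = (2 : ℂ) • C0 ψ c v := by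
        rw [par_D, mul_assoc, par_par, mul_one, C0, smul_smul, mul_inv_cancel₀ two_ne_zero, one_smul]
      rw [h, LinearMap.smul_apply]
      exact K.smul_mem _ (hK v k hk)
    | zero => simp
    | add S T _ _ hS hT =>
      rw [show S + T + par F n * (S + T) * par F n = (S + par F n * S * par F n) + (T + par F n * T * par F n) by
        rw [mul_add, add_mul]; abel, LinearMap.add_apply]
      exact K.add_mem hS hT
    | smul a T _ hT =>
      rw [mul_smul_comm, smul_mul_assoc, ← smul_add, LinearMap.smul_apply]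
      exact K.smul_mem _ hT
  refine le_antisymm hle fun g hg => ?_
  obtain ⟨x0, hx0⟩ := Function.ne_iff.1 hf0
  set η : Fn F n →ₗ[ℂ] ℂ := LinearMap.proj x0 + ε • LinearMap.proj (-x0)
  have hfε : ∀ y, f (-y) = ε * f y := fun y => congrFun (mem_part.1 (hle hf)) y
  have hgε : ∀ y, g (-y) = ε * g y := fun y => congrFun (mem_part.1 hg) y
  have h := hall (η.smulRight g) f hf
  have h' : (η.smulRight g + par F n * η.smulRight g * par F n) f = (4 * f x0) • g := funext fun y => by
    show η f * g y + η (par F n f) * g (-y) = 4 * f x0 * g y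
    simp only [η, LinearMap.add_apply, LinearMap.smul_apply, LinearMap.proj_apply, smul_eq_mul, hfε, hgε]
    show _ + (f (-x0) + ε * f (-(-x0))) * _ = _
    rw [hfε, neg_neg]
    linear_combination (3 * f x0 * g y) * hε
  rw [h'] at h
  exact (Submodule.smul_mem_iff _ (mul_ne_zero (by norm_num) hx0)).1 h

/-- A subspace of a part stable under the transvections is trivial. -/
theorem wpart_stable (hn : 2 ≤ n) {ε : ℂ} (hε : ε * ε = 1) {K : Submodule ℂ (part F n ε)}
    (hK : ∀ x s, ∀ f ∈ K, wpart hψ h2 hc ε (tv x s) f ∈ K) (h0 : K ≠ ⊥) : K = ⊤ := by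
  obtain ⟨f, hf, hf0⟩ := (Submodule.ne_bot_iff _).1 h0
  have h := stable_eq hψ h2 hc hε (Submodule.map_subtype_le (part F n ε) K) (fun v k hk => by
    obtain ⟨k, hk, rfl⟩ := hk
    rw [Submodule.subtype_apply, C0_eq hψ h2 hc, LinearMap.smul_apply, LinearMap.sum_apply]
    refine Submodule.smul_mem _ _ (Submodule.sum_mem _ fun s _ => ?_)
    rw [LinearMap.smul_apply, ← wpart_tv hψ h2 hc hn]
    exact Submodule.smul_mem _ _ (Submodule.mem_map_of_mem (hK v s k hk)))
    (Submodule.mem_map_of_mem hf) (by simpa using hf0)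
  refine Submodule.map_injective_of_injective (part F n ε).injective_subtype ?_
  rw [h, Submodule.map_top, Submodule.range_subtype]

theorem wpart_finrank {ε : ℂ} (hε : ε * ε = 1) :
    (2 * Module.finrank ℂ (part F n ε) : ℂ) = (Fintype.card F ^ n : ℕ) + ε := two_finrank h2 hε

/-- The class of a part. -/
theorem wpart_class (hn : 2 ≤ n) (ε : ℂ) : InClass (wpart (n := n) hψ h2 hc ε) ψ c := by
  intro x a f hf hf0
  by_contra h
  push Not at h
  refine hf0 (Subtype.ext ?_)
  have hs : ∀ s, ψ (-(a * s)) • Mop ψ c x s f.1 = f.1 := fun s => by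
    have := congrArg Subtype.val (hf s)
    rw [wpart_tv hψ h2 hc hn] at this
    rw [this, Submodule.coe_smul, smul_smul, ← AddChar.map_add_eq_mul, neg_add_cancel, AddChar.map_zero_eq_one,
      one_smul]
  have hz : ∑ s, ψ (-(a * s)) • Mop ψ c x s = 0 := by
    simp only [Mop, smul_comm (ψ _) qC⁻¹, ← Finset.smul_sum]
    refine smul_eq_zero.2 (Or.inr ?_)
    simp only [Finset.smul_sum, smul_smul]
    rw [Finset.sum_comm]
    refine Finset.sum_eq_zero fun b _ => ?_
    rw [Finset.sum_comm]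
    refine Finset.sum_eq_zero fun t _ => ?_
    rw [← Finset.sum_smul]
    refine smul_eq_zero.2 (Or.inl ?_)
    have k : ∀ s, ψ (-(a * s)) * ψ (s * c * b ^ 2 - 2 * c * b * t) = ψ (-(2 * c * b * t)) * ψ ((c * b ^ 2 - a) * s) :=
      fun s => by rw [← AddChar.map_add_eq_mul, ← AddChar.map_add_eq_mul]; congr 1; ring
    rw [Finset.sum_congr rfl fun s _ => k s, ← Finset.mul_sum, sum_mul hψ, if_neg (sub_ne_zero.2 (h b).symm),
      mul_zero]
  have h3 := LinearMap.congr_fun hz f.1
  simp only [LinearMap.sum_apply, LinearMap.smul_apply, hs, Finset.sum_const, Finset.card_univ,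
    ← Nat.cast_smul_eq_nsmul ℂ, LinearMap.zero_apply] at h3
  exact (smul_eq_zero.1 h3).resolve_left qC_ne_zero

theorem two_le_finrank_part (hn : 2 ≤ n) {ε : ℂ} (hε : ε * ε = 1) : 2 ≤ Module.finrank ℂ (part F n ε) := by
  have h := wpart_finrank (n := n) hψ h2 hc hε
  have hq : 2 ^ 2 ≤ Fintype.card F ^ n :=
    (Nat.pow_le_pow_left Fintype.one_lt_card 2).trans (Nat.pow_le_pow_right Fintype.card_pos hn)
  rcases mul_self_eq_one_iff.1 hε with rfl | rfl
  · have : 2 * Module.finrank ℂ (part F n (1 : ℂ)) = Fintype.card F ^ n + 1 := by exact_mod_cast h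
    omega
  · have : ((2 * Module.finrank ℂ (part F n (-1 : ℂ)) + 1 : ℕ) : ℂ) = ((Fintype.card F ^ n : ℕ) : ℂ) := by
      push_cast at h ⊢
      linear_combination h
    have := Nat.cast_injective this
    omega

/-- Some transvection is non-trivial on a part. -/
theorem wpart_moves (hn : 2 ≤ n) {ε : ℂ} (hε : ε * ε = 1) :
    ∃ x s, wpart (n := n) hψ h2 hc ε (tv x s) ≠ 1 := by
  by_contra h
  push Not at h
  have hd := two_le_finrank_part hψ h2 hc hn hε
  haveI : Nontrivial (part F n ε) := Module.finrank_pos_iff (R := ℂ).1 (by omega)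
  obtain ⟨f, hf⟩ := exists_ne (0 : part F n ε)
  have hK := wpart_stable hψ h2 hc hn hε (K := ℂ ∙ f) (fun x s g hg => by rw [h x s]; exact hg)
    (by rwa [Ne, Submodule.span_singleton_eq_bot])
  have := finrank_span_singleton (K := ℂ) hf
  rw [hK, finrank_top] at this
  omega

end Cfsg.Agent.WeilClass
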