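/-
An irreducible representation of rank one is a part of a Weil representation.
-/
import Cfsg.Agent.Lib.WeilClass.Model

set_option autoImplicit false
set_option linter.unusedSectionVars false
set_option linter.style.haveILetI false

namespace Cfsg.Agent.WeilClass

open Matrix Finset Cfsg.Agent.WeilRep Cfsg.Agent.EigenChar

variable {F : Type*} [Field F] [Fintype F] [DecidableEq F] {n : ℕ}

local notation "om" => ClassicalSp.spBilin n F
local notation "qC" => (Fintype.card F : ℂ)

variable {V : Type*} [AddCommGroup V] [Module ℂ V] [Nontrivial V]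
  {ρ : symplecticGroup (Fin n) F →* Module.End ℂ V} {ψ : AddChar F ℂ} {c : F}

/-- A part of a Weil representation is equivalent to ρ. -/
theorem exists_equiv (hψ : ψ ≠ 1) (h2 : (2 : F) ≠ 0) (hn : 2 ≤ n) (hR : RankOne ρ ψ) (hfix : NoFix ρ)
    (hc : c ≠ 0) (hcl : InClass ρ ψ c)
    (hirr : ∀ U : Submodule ℂ V, (∀ g, ∀ v ∈ U, ρ g v ∈ U) → U = ⊥ ∨ U = ⊤) :
    ∃ ε : ℂ, ε * ε = 1 ∧ ∃ e : part F n ε ≃ₗ[ℂ] V, ∀ g f, e (wpart hψ h2 hc ε g f) = ρ g (e f) := by
  have hp := psic_ne_one hψ h2 hc
  let bD : Module.Basis (Ph F n) ℂ (Module.End ℂ (Fn F n)) :=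
    Module.Basis.mk (D_indep (psic ψ c) h2 hp) (D_span (psic ψ c) h2 hp).ge
  let Φ : Module.End ℂ (Fn F n) →ₗ[ℂ] Module.End ℂ V := bD.constr ℂ fun v => cosOp ρ ψ c v
  have hΦ : ∀ v, Φ (D (psic ψ c) v) = cosOp ρ ψ c v := fun v => by
    have h := bD.constr_basis ℂ (fun v => cosOp ρ ψ c v) v
    rwa [Module.Basis.mk_apply] at h
  have hneg : ∀ v : Ph F n, cosOp ρ ψ c (-v) = cosOp ρ ψ c v := fun v => by simp only [cosOp, tv_neg]
  have hC0 : ∀ v, Φ (C0 ψ c v) = cosOp ρ ψ c v := fun v => by
    rw [C0, map_smul, map_add, hΦ, hΦ, hneg, ← two_smul ℂ, smul_smul, inv_mul_cancel₀ two_ne_zero, one_smul]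
  have hΦ1 : Φ 1 = 1 := by
    rw [← D_zero (psic ψ c), hΦ]
    exact LinearMap.ext fun v => cosOp_fixed hψ h2 hc fun s => by rw [tv_zero_vec, map_one, Module.End.one_apply]
  -- multiplicativity against the even operators
  have hmulC : ∀ A v, Φ (A * C0 ψ c v) = Φ A * cosOp ρ ψ c v := fun A v => by
    have hA : A ∈ Submodule.span ℂ (Set.range fun v : Ph F n => D (psic ψ c) v) :=
      D_span (psic ψ c) h2 hp ▸ Submodule.mem_top
    induction hA using Submodule.span_induction with
    | mem T hT =>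
      obtain ⟨u, rfl⟩ := hT
      rw [hΦ, cosOp_mul hψ h2 hn hR hfix hc hcl, C0, mul_smul_comm, mul_add, Dc_mul h2, Dc_mul h2, map_smul,
        map_add, map_smul, map_smul, hΦ, hΦ, ← sub_eq_add_neg u v, map_neg, LinearMap.neg_apply, mul_neg]
    | zero => simp
    | add S T _ _ hS hT => rw [add_mul, map_add, map_add, hS, hT, add_mul]
    | smul a T _ hT => rw [smul_mul_assoc, map_smul, map_smul, hT, smul_mul_assoc]
  have hmul : ∀ A B, B * par F n = par F n * B → Φ (A * B) = Φ A * Φ B := fun A B hB => by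
    have h : ∀ T, Φ (A * (T + par F n * T * par F n)) = Φ A * Φ (T + par F n * T * par F n) := fun T => by
      have hT : T ∈ Submodule.span ℂ (Set.range fun v : Ph F n => D (psic ψ c) v) :=
        D_span (psic ψ c) h2 hp ▸ Submodule.mem_top
      induction hT using Submodule.span_induction with
      | mem S hS =>
        obtain ⟨u, rfl⟩ := hS
        have h : D (psic ψ c) u + par F n * D (psic ψ c) u * par F n = (2 : ℂ) • C0 ψ c u := by
          rw [par_D, mul_assoc, par_par, mul_one, C0, smul_smul, mul_inv_cancel₀ two_ne_zero, one_smul]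
        rw [h, mul_smul_comm, map_smul, map_smul, hmulC, hC0, mul_smul_comm]
      | zero => simp
      | add S T _ _ hS hT =>
        rw [show S + T + par F n * (S + T) * par F n = (S + par F n * S * par F n) + (T + par F n * T * par F n) by
          rw [mul_add, add_mul]; abel, mul_add, map_add, map_add, hS, hT, mul_add]
      | smul a T _ hT => rw [mul_smul_comm a, smul_mul_assoc, ← smul_add, mul_smul_comm, map_smul, map_smul, hT,
          mul_smul_comm]
    have h3 := h B
    rw [← hB, mul_assoc B, par_par, mul_one, ← two_smul ℂ B, mul_smul_comm, map_smul, map_smul, mul_smul_comm]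
      at h3
    exact smul_right_injective _ (two_ne_zero : (2 : ℂ) ≠ 0) h3
  -- the Weil operators go to ρ
  set W : symplecticGroup (Fin n) F → Module.End ℂ (Fn F n) := fun g => ((weil (psic ψ c) h2 hp g).1 : _) with hW
  have W_mul : ∀ g h, W (g * h) = W g * W h := fun g h => by
    simp only [hW, map_mul, Subgroup.coe_mul, Units.val_mul]
  have W_par : ∀ g, W g * par F n = par F n * W g := fun g => (weil (psic ψ c) h2 hp g).2
  have hW1 : W 1 = 1 := by simp only [hW, map_one, Subgroup.coe_one, Units.val_one]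
  have hΦW : ∀ g, Φ (W g) = ρ g := by
    intro g
    have hg : g ∈ Subgroup.closure (Set.range fun p : Ph F n × F => tv p.1 p.2) := by
      rw [closure_tv]; exact Subgroup.mem_top g
    induction hg using Subgroup.closure_induction with
    | mem g h =>
      obtain ⟨⟨x, s⟩, rfl⟩ := h
      show Φ (W (tv x s)) = ρ (tv x s)
      rw [show W (tv x s) = Mop ψ c x s from weilOp_tv hψ h2 hc hn x s, tv_eq_cosOp hψ h2 hc hcl]
      simp only [Mop, map_smul, map_sum, hΦ]
    | one => rw [hW1, hΦ1, map_one]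
    | mul a b _ _ ha hb => rw [W_mul, hmul _ _ (W_par b), ha, hb, map_mul]
    | inv a _ ha =>
      have h := congrArg Φ (W_mul a⁻¹ a)
      rw [inv_mul_cancel, hW1, hΦ1, hmul _ _ (W_par a), ha] at h
      calc Φ (W a⁻¹) = Φ (W a⁻¹) * (ρ a * ρ a⁻¹) := by rw [← map_mul, mul_inv_cancel, map_one, mul_one]
        _ = ρ a⁻¹ := by rw [← mul_assoc, ← h, one_mul]
  -- parity goes to a sign
  have hP : ∀ g, Φ (par F n) * ρ g = ρ g * Φ (par F n) := fun g => by
    rw [← hΦW, ← hmul _ _ (W_par g), ← hmul _ _ rfl, W_par]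
  have hPP : Φ (par F n) * Φ (par F n) = 1 := by rw [← hmul _ _ rfl, par_par, hΦ1]
  obtain ⟨ε, hε, hPε⟩ : ∃ ε : ℂ, ε * ε = 1 ∧ Φ (par F n) = ε • 1 := by
    have hinv : ∀ g, ∀ v ∈ LinearMap.ker (Φ (par F n) - 1), ρ g v ∈ LinearMap.ker (Φ (par F n) - 1) := fun g v hv => by
      rw [LinearMap.mem_ker, LinearMap.sub_apply, sub_eq_zero, Module.End.one_apply] at hv ⊢
      rw [← Module.End.mul_apply, hP, Module.End.mul_apply, hv]
    rcases hirr _ hinv with h | h
    · refine ⟨-1, by ring, LinearMap.ext fun v => ?_⟩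
      have hv : Φ (par F n) v + v ∈ LinearMap.ker (Φ (par F n) - 1) := by
        rw [LinearMap.mem_ker, LinearMap.sub_apply, Module.End.one_apply, map_add, ← Module.End.mul_apply, hPP,
          Module.End.one_apply]
        abel
      rw [h, Submodule.mem_bot] at hv
      rw [LinearMap.smul_apply, Module.End.one_apply, neg_one_smul]
      exact eq_neg_of_add_eq_zero_left hv
    · refine ⟨1, by ring, ?_⟩
      rw [one_smul]
      exact sub_eq_zero.1 (LinearMap.ker_eq_top.1 h)
  -- the intertwiner
  let P : Module.End ℂ (Fn F n) := (2 : ℂ)⁻¹ • (1 + ε • par F n)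
  have hPpar : par F n * P = ε • P ∧ P * par F n = ε • P := by
    constructor <;>
    · simp only [P, mul_smul_comm, smul_mul_assoc, mul_add, add_mul, mul_one, one_mul, par_par, smul_add, smul_smul]
      match_scalars <;> first | linear_combination -(2 : ℂ)⁻¹ * hε | linear_combination (2 : ℂ)⁻¹ * hε | ring
  have hPmem : ∀ f, P f ∈ part F n ε := fun f => mem_part.2 (by
    rw [← Module.End.mul_apply, hPpar.1, LinearMap.smul_apply])
  have hΦP : Φ P = 1 := by
    simp only [P, map_smul, map_add, hΦ1, hPε, smul_add, smul_smul]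
    match_scalars
    linear_combination (2 : ℂ)⁻¹ * hε
  have hcomm : ∀ (x : Fin n → F) (f : Fn F n), f ∈ part F n ε →
      ((LinearMap.proj x).comp P).smulRight f * par F n = par F n * ((LinearMap.proj x).comp P).smulRight f :=
    fun x f hf => LinearMap.ext fun h => by
      show P (par F n h) x • f = par F n (P h x • f)
      rw [map_smul, mem_part.1 hf, smul_smul, ← Module.End.mul_apply, hPpar.2, LinearMap.smul_apply, Pi.smul_apply,
        smul_eq_mul, mul_comm]
  obtain ⟨x, v₀, f₀, hf₀, hne⟩ : ∃ (x : Fin n → F) (v₀ : V) (f₀ : Fn F n), f₀ ∈ part F n ε ∧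
      Φ (((LinearMap.proj x).comp P).smulRight f₀) v₀ ≠ 0 := by
    by_contra h
    push Not at h
    obtain ⟨v, hv⟩ := exists_ne (0 : V)
    have hsum : P = ∑ x : Fin n → F, ((LinearMap.proj x).comp P).smulRight (P (Pi.single x 1)) := by
      have hidem : P * P = P := by
        conv_lhs => arg 1; simp only [P]
        rw [smul_mul_assoc, add_mul, one_mul, smul_mul_assoc, hPpar.1, smul_smul, hε, one_smul, ← two_smul ℂ,
          smul_smul, inv_mul_cancel₀ two_ne_zero, one_smul]
      refine LinearMap.ext fun h => ?_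
      conv_lhs => rw [← hidem, Module.End.mul_apply, pi_eq_sum_univ' (P h)]
      simp [LinearMap.sum_apply]
    have h3 : Φ P v = 0 := by
      rw [hsum, map_sum, LinearMap.sum_apply]
      exact Finset.sum_eq_zero fun x _ => h x v _ (hPmem _)
    rw [hΦP, Module.End.one_apply] at h3
    exact hv h3
  let η := (LinearMap.proj x).comp P
  let L : part F n ε →ₗ[ℂ] V :=
    { toFun := fun f => Φ (η.smulRight f.1) v₀
      map_add' := fun f f' => by
        rw [show η.smulRight (f + f').1 = η.smulRight f.1 + η.smulRight f'.1 from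
          LinearMap.ext fun h => smul_add _ _ _, map_add, LinearMap.add_apply]
      map_smul' := fun a f => by
        rw [show η.smulRight (a • f).1 = a • η.smulRight f.1 from LinearMap.ext fun h => smul_comm _ _ _,
          map_smul, LinearMap.smul_apply, RingHom.id_apply] }
  have hL : ∀ g f, L (wpart hψ h2 hc ε g f) = ρ g (L f) := fun g f => by
    show Φ (η.smulRight (W g f.1)) v₀ = ρ g (Φ (η.smulRight f.1) v₀)
    rw [show η.smulRight (W g f.1) = W g * η.smulRight f.1 from LinearMap.ext fun h => (map_smul (W g) _ _).symm,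
      hmul _ _ (hcomm x f.1 f.2), hΦW, Module.End.mul_apply]
  have hker : LinearMap.ker L = ⊥ := by
    by_contra hk
    have ht := wpart_stable hψ h2 hc hn hε (K := LinearMap.ker L)
      (fun y s f hf => by rw [LinearMap.mem_ker, hL, LinearMap.mem_ker.1 hf, map_zero]) hk
    exact hne (LinearMap.congr_fun (LinearMap.ker_eq_top.1 ht) ⟨f₀, hf₀⟩)
  have hran : LinearMap.range L = ⊤ := by
    refine (hirr _ fun g v hv => ?_).resolve_left fun h => hne ?_
    · obtain ⟨f, rfl⟩ := hv
      exact ⟨_, hL g f⟩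
    · exact LinearMap.congr_fun (LinearMap.range_eq_bot.1 h) ⟨f₀, hf₀⟩
  exact ⟨ε, hε, LinearEquiv.ofBijective L ⟨LinearMap.ker_eq_bot.1 hker, LinearMap.range_eq_top.1 hran⟩, hL⟩

end Cfsg.Agent.WeilClass
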