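/-
The four Weil characters and the degree gap.
-/
import Cfsg.Agent.Lib.WeilClass.Classify
import Cfsg.Prelude.Def_Characters
import Cfsg.Agent.Lib.Rep.AbelianOrbit

set_option autoImplicit false
set_option linter.unusedSectionVars false
set_option linter.style.haveILetI false

namespace Cfsg.Agent.WeilClass

open Matrix Finset Cfsg.Agent.WeilRep Cfsg.Agent.EigenChar

variable {F : Type*} [Field F] [Fintype F] [DecidableEq F] {n : ℕ} {ψ : AddChar F ℂ} {c : F}

local notation "qC" => (Fintype.card F : ℂ)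

variable (hψ : ψ ≠ 1) (h2 : (2 : F) ≠ 0) (hc : c ≠ 0)
include hψ h2 hc

/-- The Weil characters. -/
noncomputable def weilChar (ε : ℂ) : symplecticGroup (Fin n) F → ℂ := (wpart hψ h2 hc ε).character

theorem weilChar_one {ε : ℂ} (hε : ε * ε = 1) :
    weilChar (n := n) hψ h2 hc ε 1 = ((Fintype.card F ^ n : ℕ) + ε) / 2 := by
  rw [weilChar, Representation.char_one, eq_div_iff two_ne_zero, mul_comm, wpart_finrank hψ h2 hc hε]

theorem weilChar_irr (hn : 2 ≤ n) {ε : ℂ} (hε : ε * ε = 1) :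
    Cfsg.IsIrrCharacter _ (weilChar (n := n) hψ h2 hc ε) := by
  have hd := two_le_finrank_part hψ h2 hc hn hε
  let e : part F n ε ≃ₗ[ℂ] (Fin (Module.finrank ℂ (part F n ε)) → ℂ) :=
    LinearEquiv.ofFinrankEq _ _ (by rw [Module.finrank_pi, Fintype.card_fin])
  let ρ : Representation ℂ (symplecticGroup (Fin n) F) (Fin (Module.finrank ℂ (part F n ε)) → ℂ) :=
    (e.conjAlgEquiv ℂ).toMulEquiv.toMonoidHom.comp (wpart hψ h2 hc ε)
  have hρ : ∀ g, ρ g = e.conj (wpart hψ h2 hc ε g) := fun _ => rfl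
  haveI : Nonempty (Fin (Module.finrank ℂ (part F n ε))) := ⟨⟨0, by omega⟩⟩
  haveI : Nontrivial (Subrepresentation ρ) := ⟨⊥, ⊤, fun h => bot_ne_top (α := Submodule ℂ _) (congrArg Subrepresentation.toSubmodule h)⟩
  refine ⟨_, ρ, ⟨fun S => ?_⟩, funext fun g => ?_⟩
  · let K : Submodule ℂ (part F n ε) := S.toSubmodule.comap e.toLinearMap
    by_cases h0 : K = ⊥
    · refine Or.inl (Subrepresentation.toSubmodule_injective ?_)
      show S.toSubmodule = ⊥
      refine (Submodule.eq_bot_iff _).2 fun v hv => ?_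
      have : e.symm v ∈ K := by simpa [K] using hv
      rw [h0, Submodule.mem_bot, LinearEquiv.map_eq_zero_iff] at this
      exact this
    · have hK := wpart_stable hψ h2 hc hn hε (K := K) (fun x s f hf => by
        have h := S.apply_mem_toSubmodule (tv x s) hf
        rw [hρ, LinearEquiv.conj_apply_apply] at h
        simpa [K] using h) h0
      refine Or.inr (Subrepresentation.toSubmodule_injective ?_)
      show S.toSubmodule = ⊤
      refine eq_top_iff.2 fun v _ => ?_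
      have : e.symm v ∈ K := by rw [hK]; trivial
      simpa [K] using this
  · show LinearMap.trace ℂ _ (ρ g) = LinearMap.trace ℂ _ (wpart hψ h2 hc ε g)
    rw [hρ, LinearMap.trace_conj']

/-- Different classes give different characters. -/
theorem weilChar_ne (hn : 2 ≤ n) {ε : ℂ} (hε : ε * ε = 1) {d : F} (hd : d ≠ 0) (hns : ∀ e, d ≠ c * e ^ 2) :
    weilChar (n := n) hψ h2 hc ε ≠ weilChar (n := n) hψ h2 hd ε := by
  intro h
  obtain ⟨x, s, hs⟩ := wpart_moves (n := n) hψ h2 hc hn hε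
  set ρ₁ := wpart (n := n) hψ h2 hc ε
  set ρ₂ := wpart (n := n) hψ h2 hd ε
  obtain ⟨f, hf⟩ : ∃ f, ρ₁ (tv x s) f ≠ f := by
    by_contra h'
    push Not at h'
    exact hs (LinearMap.ext h')
  obtain ⟨χ, ⟨t, ht⟩, hχ⟩ := exists_char (R := rootChar ρ₁ x) (W := ⊤) (fun _ _ _ => Submodule.mem_top)
    (Submodule.mem_top (x := f)) hf
  obtain ⟨a, ha⟩ := exists_param hψ χ
  have ha0 : a ≠ 0 := fun h0 => ht (by rw [ha, h0, zero_mul, AddChar.map_zero_eq_one])
  obtain ⟨v, hv, hv0⟩ := (Submodule.ne_bot_iff _).1 hχ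
  have hvE : Eg ρ₁ ψ x a v := fun r => by rw [← ha]; exact hv.2 r
  obtain ⟨e, he⟩ := wpart_class hψ h2 hc hn ε x a v hvE hv0
  -- the projection vanishes on the other part
  have hp2 : pr ρ₂ ψ x a = 0 := by
    refine LinearMap.ext fun w => ?_
    by_contra hw
    obtain ⟨e', he'⟩ := wpart_class hψ h2 hd hn ε x a _ (pr_mem x a w) hw
    have he0 : e' ≠ 0 := fun h0 => ha0 (by rw [he', h0]; ring)
    refine hns (e / e') ?_
    rw [he] at he'
    field_simp
    linear_combination -he'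
  have htr : LinearMap.trace ℂ _ (pr ρ₁ ψ x a) = LinearMap.trace ℂ _ (pr ρ₂ ψ x a) := by
    simp only [pr, map_sum, map_smul]
    exact Finset.sum_congr rfl fun r _ => congrArg _ (congrFun h (tv x r))
  rw [hp2, map_zero] at htr
  let E : Submodule ℂ (part F n ε) := eig (rootChar ρ₁ x) ⊤ (AddChar.mulShift ψ a)
  have hproj : LinearMap.IsProj E (qC⁻¹ • pr ρ₁ ψ x a) := by
    refine ⟨fun w => E.smul_mem _ ⟨Submodule.mem_top, fun r => pr_mem (ρ := ρ₁) (ψ := ψ) x a w r⟩, fun w hw => ?_⟩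
    rw [LinearMap.smul_apply, pr_eig hψ (show Eg ρ₁ ψ x a w from fun r => hw.2 r), if_pos rfl, smul_smul,
      inv_mul_cancel₀ qC_ne_zero, one_smul]
  haveI := fun U : Submodule ℂ (part F n ε) => Module.Free.of_divisionRing ℂ U
  have h1 := hproj.trace
  rw [map_smul, htr, smul_zero] at h1
  have h0 : Module.finrank ℂ E = 0 := by exact_mod_cast h1.symm
  have hmem : v ∈ E := ⟨Submodule.mem_top, hvE⟩
  rw [Submodule.finrank_eq_zero.1 h0, Submodule.mem_bot] at hmem
  exact hv0 hmem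

omit hc in
/-- An irreducible character of small degree is principal or a Weil character. -/
theorem irr_small (hn : 2 ≤ n) {ν : F} (hν : ν ≠ 0) (hsq : ∀ a : F, a ≠ 0 → ∃ d, a = 1 * d ^ 2 ∨ a = ν * d ^ 2)
    {k : ℕ} (ρ : Representation ℂ (symplecticGroup (Fin n) F) (Fin k → ℂ)) (hρ : ρ.IsIrreducible) (hk : k ≠ 1)
    (hsmall : 2 * (Fintype.card F + 1) * k < (Fintype.card F ^ n - 1) * (Fintype.card F ^ n - Fintype.card F)) :
    ∃ ε : ℂ, ε * ε = 1 ∧ (ρ.character = weilChar (n := n) hψ h2 one_ne_zero ε ∨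
      ρ.character = weilChar (n := n) hψ h2 hν ε) := by
  haveI := hρ
  have hirr : ∀ U : Submodule ℂ (Fin k → ℂ), (∀ g, ∀ v ∈ U, ρ g v ∈ U) → U = ⊥ ∨ U = ⊤ := fun U hU => by
    let S : Subrepresentation ρ := { toSubmodule := U, apply_mem_toSubmodule := fun g v hv => hU g v hv }
    rcases IsSimpleOrder.eq_bot_or_eq_top S with h | h
    · exact Or.inl (congrArg Subrepresentation.toSubmodule h)
    · exact Or.inr (congrArg Subrepresentation.toSubmodule h)
  have hk0 : k ≠ 0 := by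
    rintro rfl
    exact bot_ne_top (α := Subrepresentation ρ) (Subrepresentation.toSubmodule_injective (Subsingleton.elim _ _))
  haveI : Nonempty (Fin k) := ⟨⟨0, by omega⟩⟩
  have hfix : NoFix ρ := fun v hv => by
    by_contra h0
    have := (hirr (ℂ ∙ v) fun g w hw => by
      obtain ⟨a, rfl⟩ := Submodule.mem_span_singleton.1 hw
      rw [map_smul, hv]
      exact hw).resolve_left (by rwa [Submodule.span_singleton_eq_bot])
    have h1 := finrank_span_singleton (K := ℂ) h0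
    rw [this, finrank_top, Module.finrank_pi, Fintype.card_fin] at h1
    exact hk h1
  have hR : RankOne ρ ψ := rankOne_of_small hψ h2 hn (by rwa [Module.finrank_pi, Fintype.card_fin])
  obtain ⟨z, a, v, ha0, hv, hv0⟩ : ∃ z a v, a ≠ 0 ∧ Eg ρ ψ z a v ∧ v ≠ 0 := by
    by_contra h
    push Not at h
    have hall : ∀ (x : Ph F n) s v, ρ (tv x s) v = v := fun x s v => by
      refine sub_eq_zero.1 (kill_on (R := rootChar ρ x) (W := ⊤) (fun _ _ _ => Submodule.mem_top)
        (ρ (tv x s) - 1) (fun χ y _ hy => ?_) (Submodule.mem_top (x := v)))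
      obtain ⟨a, ha⟩ := exists_param hψ χ
      have hy' : Eg ρ ψ x a y := fun r => by rw [← ha]; exact hy r
      rw [LinearMap.sub_apply, Module.End.one_apply, hy'.app s]
      by_cases ha0 : a = 0
      · rw [ha0, zero_mul, AddChar.map_zero_eq_one, one_smul, sub_self]
      · rw [h x a y ha0 hy', smul_zero, sub_zero]
    obtain ⟨v, hv⟩ := exists_ne (0 : Fin k → ℂ)
    refine hv (hfix v fun g => ?_)
    have hg : g ∈ Subgroup.closure (Set.range fun p : Ph F n × F => tv p.1 p.2) := by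
      rw [closure_tv]; exact Subgroup.mem_top g
    induction hg using Subgroup.closure_induction with
    | mem g h => obtain ⟨⟨x, s⟩, rfl⟩ := h; exact hall x s v
    | one => rw [map_one, Module.End.one_apply]
    | mul a b _ _ ha hb => rw [map_mul, Module.End.mul_apply, hb, ha]
    | inv a _ ha =>
      conv_lhs => rw [← ha]
      rw [← Module.End.mul_apply, ← map_mul, inv_mul_cancel, map_one, Module.End.one_apply]
  have key : ∀ {c : F} (hc : c ≠ 0), (∃ d, a = c * d ^ 2) →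
      ∃ ε : ℂ, ε * ε = 1 ∧ ρ.character = weilChar (n := n) hψ h2 hc ε := by
    rintro c hc ⟨d, rfl⟩
    have hd : d ≠ 0 := fun h => ha0 (by rw [h]; ring)
    obtain ⟨ε, hε, e, he⟩ := exists_equiv hψ h2 hn hR hfix hc
      (inClass_of_irreducible hψ h2 hn hR hfix hirr hc hd hv hv0) hirr
    refine ⟨ε, hε, funext fun g => ?_⟩
    have hg : ρ g = e.conj (wpart hψ h2 hc ε g) := LinearMap.ext fun w => by
      rw [LinearEquiv.conj_apply_apply, he, LinearEquiv.apply_symm_apply]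
    show LinearMap.trace ℂ _ (ρ g) = LinearMap.trace ℂ _ (wpart hψ h2 hc ε g)
    rw [hg, LinearMap.trace_conj']
  obtain ⟨d, hd | hd⟩ := hsq a ha0
  · obtain ⟨ε, hε, h⟩ := key one_ne_zero ⟨d, hd⟩
    exact ⟨ε, hε, Or.inl h⟩
  · obtain ⟨ε, hε, h⟩ := key hν ⟨d, hd⟩
    exact ⟨ε, hε, Or.inr h⟩

end Cfsg.Agent.WeilClass

namespace Cfsg.Agent.WeilClass

open Matrix Cfsg.Agent.WeilRep

theorem small_ineq {q Q k : ℕ} (hq : 3 ≤ q) (hQ : q * q ≤ Q) (hk : 2 * k ≤ Q + 1) :
    2 * (q + 1) * k < (Q - 1) * (Q - q) := by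
  obtain ⟨m, rfl⟩ := Nat.exists_eq_add_of_le hQ
  have h1 : q * q + m - q = q * (q - 1) + m := by
    obtain ⟨p, rfl⟩ := Nat.exists_eq_add_of_le (show 1 ≤ q by omega)
    simp only [Nat.add_sub_cancel_left]
    rw [show (1 + p) * (1 + p) + m = (1 + p) + ((1 + p) * p + m) by ring, Nat.add_sub_cancel_left]
  obtain ⟨p, rfl⟩ := Nat.exists_eq_add_of_le hq
  have h3 : (3 + p) * (3 + p) + m - 1 = 8 + 6 * p + p * p + m := by
    rw [show (3 + p) * (3 + p) + m = (8 + 6 * p + p * p + m) + 1 by ring, Nat.add_sub_cancel]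
  rw [h1, h3, show 3 + p - 1 = 2 + p by omega]
  nlinarith [Nat.zero_le (p * m), Nat.zero_le (p * p * p), Nat.zero_le (m * m), Nat.zero_le (p * p * m),
    Nat.mul_le_mul_left (3 + p + 1) hk]

/-- Weil characters and the gap. -/
theorem weil_gap {F : Type*} [Field F] [Fintype F] (hodd : Odd (Fintype.card F)) (n : ℕ) (hn : 2 ≤ n) :
    Nat.card {χ : Cfsg.IrrCharacter ↥(symplecticGroup (Fin n) F) // (χ : ↥(symplecticGroup (Fin n) F) → ℂ) 1 = ((Fintype.card F ^ n + 1 : ℕ) : ℂ) / 2} = 2 ∧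
    Nat.card {χ : Cfsg.IrrCharacter ↥(symplecticGroup (Fin n) F) // (χ : ↥(symplecticGroup (Fin n) F) → ℂ) 1 = ((Fintype.card F ^ n - 1 : ℕ) : ℂ) / 2} = 2 ∧
    ∀ χ : Cfsg.IrrCharacter ↥(symplecticGroup (Fin n) F), (χ : ↥(symplecticGroup (Fin n) F) → ℂ) 1 ≠ 1 →
      (χ : ↥(symplecticGroup (Fin n) F) → ℂ) 1 ≠ ((Fintype.card F ^ n + 1 : ℕ) : ℂ) / 2 →
      (χ : ↥(symplecticGroup (Fin n) F) → ℂ) 1 ≠ ((Fintype.card F ^ n - 1 : ℕ) : ℂ) / 2 →
      ((Fintype.card F ^ n - 1 : ℕ) : ℝ) * ((Fintype.card F ^ n - Fintype.card F : ℕ) : ℝ) /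
        (2 * ((Fintype.card F : ℕ) + 1 : ℝ)) ≤ ‖(χ : ↥(symplecticGroup (Fin n) F) → ℂ) 1‖ := by
  classical
  have hchar : ringChar F ≠ 2 := fun h => by
    have h' := FiniteField.even_card_of_char_two h
    rw [Nat.odd_iff] at hodd
    omega
  have h2 : (2 : F) ≠ 0 := Ring.two_ne_zero hchar
  obtain ⟨ψ, hψ⟩ := Cfsg.Agent.AbelianOrbit.exists_addChar F ℂ (Nat.cast_ne_zero.2 Fintype.card_ne_zero)
  obtain ⟨ν, hν'⟩ := FiniteField.exists_nonsquare hchar
  have hν : ν ≠ 0 := fun h => hν' (h ▸ IsSquare.zero)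
  have hns : ∀ e : F, ν ≠ 1 * e ^ 2 := fun e h => hν' ⟨e, by rw [h]; ring⟩
  have hsq : ∀ a : F, a ≠ 0 → ∃ d, a = 1 * d ^ 2 ∨ a = ν * d ^ 2 := fun a ha => by
    by_cases h : IsSquare a
    · obtain ⟨d, rfl⟩ := h
      exact ⟨d, Or.inl (by ring)⟩
    · have h1 := (quadraticChar_neg_one_iff_not_isSquare (F := F)).2 h
      have h3 := (quadraticChar_neg_one_iff_not_isSquare (F := F)).2 hν'
      obtain ⟨d, hd⟩ := (quadraticChar_one_iff_isSquare (mul_ne_zero ha hν)).1 (by rw [map_mul, h1, h3]; norm_num)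
      exact ⟨d / ν, Or.inr (by field_simp; linear_combination hd)⟩
  set G := ↥(symplecticGroup (Fin n) F)
  set q := Fintype.card F with hq
  have hq3 : 3 ≤ q := by
    have : 1 < q := Fintype.one_lt_card
    rw [Nat.odd_iff] at hodd
    omega
  have hQ : q * q ≤ q ^ n := by rw [← pow_two]; exact Nat.pow_le_pow_right (by omega) hn
  have hQ1 : 1 ≤ q ^ n := Nat.one_le_pow _ _ (by omega)
  -- identification of the small characters
  have key : ∀ χ : Cfsg.IrrCharacter G, (χ : G → ℂ) 1 ≠ 1 →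
      ∀ k : ℕ, (χ : G → ℂ) 1 = k → 2 * (q + 1) * k < (q ^ n - 1) * (q ^ n - q) →
      ∃ ε : ℂ, ε * ε = 1 ∧ (χ : G → ℂ) 1 = ((q ^ n : ℕ) + ε) / 2 ∧
        ((χ : G → ℂ) = weilChar (n := n) hψ h2 one_ne_zero ε ∨ (χ : G → ℂ) = weilChar (n := n) hψ h2 hν ε) := by
    rintro ⟨χ, m, ρ, hρ, rfl⟩ h1 k hk hsmall
    have hm : ρ.character 1 = (m : ℂ) := by
      rw [Representation.char_one, Module.finrank_pi, Fintype.card_fin]
    have hmk : m = k := by exact_mod_cast hm.symm.trans hk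
    subst hmk
    obtain ⟨ε, hε, h⟩ := irr_small hψ h2 hn hν hsq ρ hρ (fun h' => h1 (by
      show ρ.character 1 = 1
      rw [hm, h', Nat.cast_one])) hsmall
    refine ⟨ε, hε, ?_, h⟩
    show ρ.character 1 = _
    rcases h with h | h <;> rw [h] <;> exact weilChar_one hψ h2 _ hε
  have count : ∀ ε : ℂ, ε * ε = 1 → ∀ d : ℕ, ((q ^ n : ℕ) : ℂ) + ε = d → 2 * 2 ≤ d → d ≤ q ^ n + 1 →
      Nat.card {χ : Cfsg.IrrCharacter G // (χ : G → ℂ) 1 = (d : ℂ) / 2} = 2 := by
    intro ε hε d hd hd4 hdle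
    have mk1 : ∀ {c : F} (hc : c ≠ 0), weilChar (n := n) hψ h2 hc ε 1 = (d : ℂ) / 2 := fun hc => by
      rw [weilChar_one hψ h2 hc hε, hd]
    let A : {χ : Cfsg.IrrCharacter G // (χ : G → ℂ) 1 = (d : ℂ) / 2} :=
      ⟨⟨_, weilChar_irr hψ h2 one_ne_zero hn hε⟩, mk1 one_ne_zero⟩
    let B : {χ : Cfsg.IrrCharacter G // (χ : G → ℂ) 1 = (d : ℂ) / 2} :=
      ⟨⟨_, weilChar_irr hψ h2 hν hn hε⟩, mk1 hν⟩
    refine Nat.card_eq_two_iff.2 ⟨A, B, fun h => ?_, Set.eq_univ_of_forall fun χ => ?_⟩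
    · exact weilChar_ne hψ h2 one_ne_zero hn hε hν hns (congrArg (fun χ => χ.1.1) h)
    · obtain ⟨⟨χ, m, ρ, hρ, hχ⟩, hd1⟩ := χ
      have hm : χ 1 = (m : ℂ) := by
        rw [← hχ, Representation.char_one, Module.finrank_pi, Fintype.card_fin]
      have h2m : 2 * m = d := by
        have : ((2 * m : ℕ) : ℂ) = (d : ℂ) := by
          push_cast
          rw [← hm, show χ 1 = (d : ℂ) / 2 from hd1]
          ring
        exact_mod_cast this
      obtain ⟨ε', -, hε', h⟩ := key ⟨χ, m, ρ, hρ, hχ⟩ (fun h => by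
        have : m = 1 := by exact_mod_cast hm.symm.trans h
        omega) m hm (small_ineq hq3 hQ (by omega))
      have : ε' = ε := by
        have e1 := hε'.symm.trans hd1
        rw [← hd] at e1
        linear_combination (2 : ℂ) * e1
      subst this
      rcases h with h | h
      · exact Or.inl (Subtype.ext (Subtype.ext h))
      · exact Or.inr (Subtype.ext (Subtype.ext h))
  have h4 : 4 ≤ q ^ n - 1 := by
    have : 9 ≤ q * q := Nat.mul_le_mul hq3 hq3
    omega
  refine ⟨count 1 (one_mul 1) _ (by push_cast; ring) (by omega) le_rfl,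
    count (-1) (by ring) _ (by rw [Nat.cast_sub hQ1]; push_cast; ring) h4 (by omega), ?_⟩
  rintro χ h1 hp hm
  by_contra hB
  obtain ⟨m, ρ, -, hρ⟩ := χ.2
  have hk : (χ : G → ℂ) 1 = (m : ℂ) := by
    rw [← hρ, Representation.char_one, Module.finrank_pi, Fintype.card_fin]
  rw [hk, Complex.norm_natCast, div_le_iff₀ (by positivity)] at hB
  have hsmall : 2 * (q + 1) * m < (q ^ n - 1) * (q ^ n - q) := by
    have h' := not_le.1 hB
    have : ((2 * (q + 1) * m : ℕ) : ℝ) < (((q ^ n - 1) * (q ^ n - q) : ℕ) : ℝ) := by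
      push_cast
      push_cast at h'
      linarith
    exact_mod_cast this
  obtain ⟨ε, hε, hval, -⟩ := key χ h1 m hk hsmall
  rcases mul_self_eq_one_iff.1 hε with rfl | rfl
  · exact hp (by rw [hval]; push_cast; ring)
  · exact hm (by rw [hval, Nat.cast_sub hQ1]; push_cast; ring)

end Cfsg.Agent.WeilClass
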